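import Cfsg.Agent.Lib.SzBinary.Basic
import Cfsg.Agent.Lib.Involutions.StronglyEmbedded
import Mathlib.GroupTheory.GroupAction.Quotient

/-!
Binary actions of groups with one class of involutions: fixed point sets of involutions.
-/

set_option autoImplicit false
set_option linter.unusedSectionVars false

namespace Cfsg.Agent.BinInvol

open Cfsg.Agent.SzBinary

variable {G : Type*} [Group G] {H : Subgroup G}

/-- Any two involutions are conjugate. -/
def OneClass (G : Type*) [Group G] : Prop :=
  ∀ s t : G, orderOf s = 2 → orderOf t = 2 → IsConj s t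

/-- The fixed cosets of an element. -/
def fix (H : Subgroup G) (a : G) : Set (G ⧸ H) := {x | a • x = x}

theorem mem_fix {a : G} {x : G ⧸ H} : x ∈ fix H a ↔ a • x = x := Iff.rfl

theorem one_mem_fix {a : G} : ((1 : G) : G ⧸ H) ∈ fix H a ↔ a ∈ H := by
  rw [mem_fix, MulAction.Quotient.smul_coe, QuotientGroup.eq]; simp

theorem mem_fix_conj {a g : G} {x : G ⧸ H} : x ∈ fix H (g * a * g⁻¹) ↔ g⁻¹ • x ∈ fix H a := by
  rw [mem_fix, mem_fix, mul_smul, mul_smul, eq_inv_smul_iff]

variable [Finite G]

omit [Finite G] in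
theorem ncard_fix (hone : OneClass G) {a b : G} (ha : orderOf a = 2) (hb : orderOf b = 2) :
    (fix H a).ncard = (fix H b).ncard := by
  obtain ⟨g, hg⟩ := isConj_iff.1 (hone a b ha hb)
  have e : fix H b = (fun x => g • x) '' fix H a := by
    ext x
    rw [← hg, mem_fix_conj]
    exact ⟨fun h => ⟨_, h, smul_inv_smul g x⟩, by rintro ⟨y, hy, rfl⟩; rwa [inv_smul_smul]⟩
  rw [e, Set.ncard_image_of_injective _ (MulAction.injective g)]

/-- No element fixing a point moved by an involution maps another moved point to its image. -/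
theorem no_swap (hb : BinaryOn H) (hone : OneClass G) {a g : G} {y z : G ⧸ H} (ha : orderOf a = 2)
    (hy : a • y ≠ y) (hz : a • z ≠ z) (hgy : g • y = y) (hgz : g • z = a • z) : False := by
  classical
  haveI : Fintype (G ⧸ H) := Fintype.ofFinite _
  set k := Fintype.card (fix H a)
  set e := (Fintype.equivFin (fix H a)).symm
  let I : Fin (k + 3) → G ⧸ H := Fin.addCases (fun i => (e i : G ⧸ H)) ![y, z, a • z]
  let J : Fin (k + 3) → G ⧸ H := Fin.addCases (fun i => (e i : G ⧸ H)) ![y, a • z, z]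
  have haa : ∀ x : G ⧸ H, a • a • x = x := fun x => by rw [← mul_smul, Invol.mul_self ha, one_smul]
  have hf : ∀ i, a • (e i : G ⧸ H) = e i := fun i => (e i).2
  have hg' : g⁻¹ • (a • z) = z := by rw [← hgz, inv_smul_smul]
  have hgy' : g⁻¹ • y = y := by rw [inv_smul_eq_iff, hgy]
  obtain ⟨h, hh⟩ := hb (k + 3) I J (by omega) (by
    intro i j hij
    induction i using Fin.addCases with
    | left i =>
      induction j using Fin.addCases with
      | left j => exact ⟨1, by simp [I, J], by simp [I, J]⟩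
      | right j =>
        fin_cases j
        · exact ⟨1, by simp [I, J], by simp [I, J]⟩
        · exact ⟨a, by simp [I, J, hf], by simp [I, J]⟩
        · exact ⟨a, by simp [I, J, hf], by simp [I, J, haa]⟩
    | right i =>
      induction j using Fin.addCases with
      | left j =>
        fin_cases i
        · exact ⟨1, by simp [I, J], by simp [I, J]⟩
        · exact ⟨a, by simp [I, J], by simp [I, J, hf]⟩
        · exact ⟨a, by simp [I, J, haa], by simp [I, J, hf]⟩
      | right j =>
        fin_cases i <;> fin_cases j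
        · exact absurd rfl hij
        · exact ⟨g, by simp [I, J, hgy], by simp [I, J, hgz]⟩
        · exact ⟨g⁻¹, by simp [I, J, hgy'], by simp [I, J, hg']⟩
        · exact ⟨g, by simp [I, J, hgz], by simp [I, J, hgy]⟩
        · exact absurd rfl hij
        · exact ⟨a, by simp [I, J], by simp [I, J, haa]⟩
        · exact ⟨g⁻¹, by simp [I, J, hg'], by simp [I, J, hgy']⟩
        · exact ⟨a, by simp [I, J, haa], by simp [I, J]⟩
        · exact absurd rfl hij)
  have hfix : ∀ x ∈ fix H a, h • x = x := fun x hx => by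
    have := hh (Fin.castAdd 3 (e.symm ⟨x, hx⟩))
    simpa [I, J] using this
  have h0 : h • y = y := by simpa [I, J] using hh (Fin.natAdd k 0)
  have h1 : h • z = a • z := by simpa [I, J] using hh (Fin.natAdd k 1)
  have h2 : h • (a • z) = z := by simpa [I, J] using hh (Fin.natAdd k 2)
  have heven : Even (orderOf h) := by
    rw [← Nat.not_odd_iff_even]
    rintro ⟨m, hm⟩
    have h2m : ∀ m : ℕ, h ^ (2 * m) • z = z := by
      intro m
      induction m with
      | zero => rw [mul_zero, pow_zero, one_smul]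
      | succ m ih => rw [mul_add, pow_add, mul_one, mul_smul, pow_two, mul_smul, h1, h2, ih]
    have := pow_orderOf_eq_one h
    rw [hm, pow_succ', ] at this
    have hz' := congrArg (fun x => x • z) this
    simp only [one_smul, mul_smul, h2m, h1] at hz'
    exact hz hz'
  obtain ⟨m, hm⟩ := heven
  have hi : orderOf (h ^ m) = 2 := by
    rw [orderOf_pow' h (fun e0 => by have := orderOf_pos h; omega), hm,
      Nat.gcd_eq_right ⟨2, by ring⟩]
    have := orderOf_pos h
    rw [show m + m = m * 2 by ring, Nat.mul_div_cancel_left _ (by omega)]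
  have hst : ∀ x : G ⧸ H, h • x = x → ∀ m : ℕ, h ^ m • x = x := fun x hx m => by
    induction m with
    | zero => rw [pow_zero, one_smul]
    | succ m ih => rw [pow_succ, mul_smul, hx, ih]
  have hsub : insert y (fix H a) ⊆ fix H (h ^ m) := by
    rintro x (rfl | hx)
    · exact hst _ h0 m
    · exact hst _ (hfix x hx) m
  have := Set.ncard_le_ncard hsub (Set.toFinite _)
  rw [Set.ncard_insert_of_notMem (show y ∉ fix H a from hy) (Set.toFinite _), ncard_fix hone hi ha] at this
  omega

/-- Commuting involutions fix the same cosets. -/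
theorem fix_eq (hb : BinaryOn H) (hone : OneClass G) {a b : G} (ha : orderOf a = 2) (hb' : orderOf b = 2)
    (hc : a * b = b * a) : fix H a = fix H b := by
  by_contra hne
  obtain ⟨x, hxa, hxb⟩ : ∃ x, x ∈ fix H a ∧ x ∉ fix H b := by
    by_contra! hsub
    exact hne (Set.eq_of_subset_of_ncard_le hsub (ncard_fix hone hb' ha).le (Set.toFinite _))
  obtain ⟨z, hzb, hza⟩ : ∃ z, z ∈ fix H b ∧ z ∉ fix H a := by
    by_contra! hsub
    exact hne (Set.eq_of_subset_of_ncard_le hsub (ncard_fix hone ha hb').le (Set.toFinite _)).symm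
  rw [mem_fix] at hxa hzb
  have hc2 : orderOf (a * b) = 2 := by
    refine Invol.order_two_of_sq ?_ fun h => ?_
    · rw [show a * b * (a * b) = a * (b * a) * b by group, ← hc,
        show a * (a * b) * b = (a * a) * (b * b) by group, Invol.mul_self ha, Invol.mul_self hb', mul_one]
    · exact hne (by rw [mul_eq_one_iff_eq_inv.1 h, Invol.inv_self hb'])
  have hcx : (a * b) • x = b • x := by rw [hc, mul_smul, hxa]
  have hcz : (a * b) • z = a • z := by rw [mul_smul, hzb]
  exact no_swap hb hone hc2 (g := a) (y := x) (z := z) (fun e => hxb (hcx.symm.trans e))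
    (fun e => hza (hcz.symm.trans e)) hxa hcz.symm

theorem mem_of_commute (hb : BinaryOn H) (hone : OneClass G) {a b : G} (ha : orderOf a = 2)
    (hb' : orderOf b = 2) (hc : a * b = b * a) (haH : a ∈ H) : b ∈ H := by
  rw [← one_mem_fix, ← fix_eq hb hone ha hb' hc, one_mem_fix]
  exact haH

/-- The stabiliser of the fixed point set of an involution in `H` is strongly embedded. -/
theorem exists_se [IsSimpleGroup G] (hb : BinaryOn H) (hone : OneClass G) (hH : H ≠ ⊤)
    (heven : Even (Nat.card H)) : ∃ M : Subgroup G, Cfsg.IsStronglyEmbedded M := by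
  obtain ⟨t, htH, ht⟩ := Invol.exists_invol heven
  let M : Subgroup G :=
    { carrier := {g | ∀ x, x ∈ fix H t ↔ g • x ∈ fix H t}
      one_mem' := fun x => by rw [one_smul]
      mul_mem' := fun {g h} hg hh x => by rw [hh x, hg (h • x), mul_smul]
      inv_mem' := fun {g} hg x => by rw [hg (g⁻¹ • x), smul_inv_smul] }
  have hmem : ∀ s : G, fix H s = fix H t → s ∈ M := fun s hs x => by
    rw [← hs]
    simp only [mem_fix]
    exact ⟨fun h => congrArg (s • ·) h, fun h => MulAction.injective s h⟩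
  have hfixM : ∀ s ∈ M, orderOf s = 2 → fix H s = fix H t := by
    intro s hs hso
    rcases Nat.even_or_odd (orderOf (t * s)) with he | ho
    · obtain ⟨c1, c2⟩ := Invol.half_commute ht hso he
      have hz := Invol.half_order ht hso he (orderOf_pos _)
      exact (fix_eq hb hone hso hz c2.symm.eq).trans (fix_eq hb hone hz ht c1.eq)
    · obtain ⟨d, hd, hds⟩ := Invol.conj_of_odd ht hso ho
      have hdM : d ∈ M := (Subgroup.closure_le M).2 (by
        rintro x (rfl | rfl)
        exacts [hmem _ rfl, hs]) hd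
      ext x
      rw [← hds, mem_fix_conj]
      exact ((inv_mem hdM) x).symm
  refine ⟨M, ?_, Invol.even_of_invol_mem ht (hmem t rfl), fun g hg => ?_⟩
  · intro htop
    have hall : ∀ s : G, orderOf s = 2 → s ∈ H := fun s hs => by
      rw [← one_mem_fix, hfixM s (htop ▸ Subgroup.mem_top s) hs, one_mem_fix]
      exact htH
    have hn : (Subgroup.normalClosure {t}) ≤ H := (Subgroup.closure_le H).2 fun x hx => by
      obtain ⟨a, rfl, hax⟩ := Group.mem_conjugatesOfSet_iff.1 hx
      obtain ⟨c, rfl⟩ := isConj_iff.1 hax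
      exact hall _ ((Invol.order_conj c a).trans ht)
    rcases (Subgroup.normalClosure_normal (s := {t})).eq_bot_or_eq_top with h | h
    · exact Invol.ne_one ht (Subgroup.mem_bot.1 (h ▸ Subgroup.subset_normalClosure rfl))
    · exact hH (top_le_iff.1 (h ▸ hn))
  · rw [← Nat.not_even_iff_odd]
    intro he
    obtain ⟨s, hs, hso⟩ := Invol.exists_invol he
    obtain ⟨hsM, hsg⟩ := Subgroup.mem_inf.1 hs
    rw [Invol.mem_conj_map] at hsg
    have hso' : orderOf (g⁻¹ * s * g) = 2 := by
      rw [show g⁻¹ * s * g = g⁻¹ * s * g⁻¹⁻¹ by group, Invol.order_conj, hso]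
    refine hg (M.inv_mem_iff.1 fun x => ?_)
    conv_lhs => rw [← hfixM s hsM hso]
    rw [← hfixM _ hsg hso', show g⁻¹ * s * g = g⁻¹ * s * g⁻¹⁻¹ by group, mem_fix_conj, inv_inv, smul_inv_smul]

omit [Finite G] in
/-- Binarity transports along surjections, to preimages. -/
theorem binary_comap {G' : Type*} [Group G'] (φ : G →* G') (hφ : Function.Surjective φ) {K : Subgroup G'}
    (hb : BinaryOn K) : BinaryOn (K.comap φ) := by
  intro n I J hn hp
  choose x hx using fun i => QuotientGroup.mk_surjective (I i)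
  choose y hy using fun i => QuotientGroup.mk_surjective (J i)
  have key : ∀ g i, g • I i = J i ↔ φ g • ((φ (x i) : G') : G' ⧸ K) = ((φ (y i) : G') : G' ⧸ K) := fun g i => by
    rw [← hx i, ← hy i, MulAction.Quotient.smul_coe, MulAction.Quotient.smul_coe, QuotientGroup.eq,
      QuotientGroup.eq, Subgroup.mem_comap]
    simp
  obtain ⟨g', hg'⟩ := hb n (fun i => ((φ (x i) : G') : G' ⧸ K)) (fun i => ((φ (y i) : G') : G' ⧸ K)) hn
    fun i j hij => by
      obtain ⟨g, h1, h2⟩ := hp i j hij
      exact ⟨φ g, (key g i).1 h1, (key g j).1 h2⟩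
  obtain ⟨g, rfl⟩ := hφ g'
  exact ⟨g, fun i => (key g i).2 (hg' i)⟩

omit [Finite G] in
/-- An elementary abelian subgroup holding the centralising involutions of its elements and meeting no conjugate
gives a binary action. -/
theorem binary_of_ti {Z : Subgroup G} (hsq : ∀ z ∈ Z, z * z = 1)
    (hcen : ∀ u ∈ Z, u ≠ 1 → ∀ v : G, v * v = 1 → u * v = v * u → v ∈ Z)
    (hti : ∀ g : G, ∀ v ∈ Z, v ≠ 1 → g * v * g⁻¹ ∈ Z → ∀ w, g * w * g⁻¹ ∈ Z ↔ w ∈ Z) : BinaryOn Z := by
  refine binary_of_tri fun x₁ x₂ x₃ u v hu hv huv hu1 hv1 z => ?_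
  have hs : ∀ (x w : G), x⁻¹ * w * x ∈ Z → w * w = 1 := fun x w hw => by
    have h := hsq _ hw
    rw [show x⁻¹ * w * x * (x⁻¹ * w * x) = x⁻¹ * (w * w) * x by group] at h
    calc w * w = x * (x⁻¹ * (w * w) * x) * x⁻¹ := by group
      _ = 1 := by rw [h]; group
  have hu2 := hs _ _ hu
  have hv2 := hs _ _ hv
  have h3 := hs _ _ huv
  rw [inv_eq_of_mul_eq_one_right hu2] at h3
  have hc : u * v = v * u := by
    calc u * v = (u * v)⁻¹ := (inv_eq_of_mul_eq_one_right h3).symm
      _ = v * u := by rw [mul_inv_rev, inv_eq_of_mul_eq_one_right hu2, inv_eq_of_mul_eq_one_right hv2]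
  have h1 : ∀ w : G, x₁⁻¹ * w * x₁ = 1 ↔ w = 1 := fun w => by
    rw [mul_eq_one_iff_eq_inv, mul_eq_left]
  have hv1' : x₁⁻¹ * v * x₁ ∈ Z := hcen _ hu (fun e => hu1 ((h1 u).1 e)) _
    (by rw [show x₁⁻¹ * v * x₁ * (x₁⁻¹ * v * x₁) = x₁⁻¹ * (v * v) * x₁ by group, hv2]; group)
    (by rw [show x₁⁻¹ * u * x₁ * (x₁⁻¹ * v * x₁) = x₁⁻¹ * (u * v) * x₁ by group, hc]; group)
  have := hti (x₁⁻¹ * x₂) (x₂⁻¹ * v * x₂) hv (fun e => hv1 (by
    calc v = x₂ * (x₂⁻¹ * v * x₂) * x₂⁻¹ := by group
      _ = 1 := by rw [e]; group)) (by group; group at hv1'; exact hv1') (x₂⁻¹ * z * x₂)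
  rwa [show x₁⁻¹ * x₂ * (x₂⁻¹ * z * x₂) * (x₁⁻¹ * x₂)⁻¹ = x₁⁻¹ * z * x₁ by group] at this

end Cfsg.Agent.BinInvol
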