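import Cfsg.Agent.Lib.GoldStruct.ModelPSU
import Cfsg.Agent.Lib.PSU3Index.Data

/-!
`SU₃(q)`, `q` even: the centre of the unipotent radical, elements of order three, and an orthonormal frame.
-/

set_option autoImplicit false
set_option linter.unusedSectionVars false

namespace Cfsg.Agent.BinInvol

open Matrix Hermitian PSU3Index
open Cfsg.Agent.SU3Root (Uni uu dd ww)

variable {F : Type*} [Field F] [Fintype F] [CharP F 2] {q : ℕ} (C : Ctx F q)

local notation "M3" => Matrix (Fin 3) (Fin 3) F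
set_option quotPrecheck false in
local notation "G" => ↥(Cfsg.SU 3 F q)

/-- The centre of the unipotent radical. -/
def rootZ : Subgroup G where
  carrier := {g | g ∈ rad C ∧ mat C g 1 2 = 0}
  one_mem' := ⟨one_mem _, by simp [mat_one]⟩
  mul_mem' := fun {g h} hg hh => ⟨mul_mem hg.1 hh.1, by
    obtain ⟨a, b, k, rfl⟩ := rad_form C hg.1
    obtain ⟨a', b', k', rfl⟩ := rad_form C hh.1
    have ha : a = 0 := by simpa [mat_uEl, uu] using hg.2
    have ha' : a' = 0 := by simpa [mat_uEl, uu] using hh.2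
    simp [mat_mul, mat_uEl, uu, Matrix.mul_apply, Fin.sum_univ_three, ha, ha']⟩
  inv_mem' := fun {g} hg => by
    refine ⟨inv_mem hg.1, ?_⟩
    obtain ⟨a, b, k, hg'⟩ := rad_form C hg.1
    obtain ⟨a', b', k', h'⟩ := rad_form C (inv_mem hg.1)
    have ha : a = 0 := by simpa [hg', mat_uEl, uu] using hg.2
    have h := congrFun (congrFun (mat_mul_inv C g) 1) 2
    rw [hg'] at h
    rw [← hg', h', hg', mat_uEl, mat_uEl] at h
    rw [h', mat_uEl]
    simpa [uu, Matrix.mul_apply, Fin.sum_univ_three, ha] using h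

theorem rootZ_form {g : G} (hg : g ∈ rootZ C) :
    ∃ (b : F) (h : b + C.σ b + 0 * C.σ (0 : F) = 0), g = uEl C 0 b h := by
  obtain ⟨a, b, h, rfl⟩ := rad_form C hg.1
  obtain rfl : a = 0 := by simpa [mat_uEl, uu] using hg.2
  exact ⟨b, h, rfl⟩

theorem uEl_mem_rootZ {b : F} (h : b + C.σ b + 0 * C.σ (0 : F) = 0) : uEl C 0 b h ∈ rootZ C :=
  ⟨uEl_mem_rad C h, by simp [mat_uEl, uu]⟩

theorem rootZ_le_borel : rootZ C ≤ borel C := fun _ h => h.1.1

theorem rootZ_comm {x y : G} (hx : x ∈ rootZ C) (hy : y ∈ rootZ C) : x * y = y * x := by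
  obtain ⟨b, h, rfl⟩ := rootZ_form C hx
  obtain ⟨b', h', rfl⟩ := rootZ_form C hy
  exact mat_inj C (by
    rw [mat_mul, mat_mul, mat_uEl, mat_uEl, uu_mul, uu_mul]
    simp [add_comm b])

theorem rootZ_sq {x : G} (hx : x ∈ rootZ C) : x * x = 1 := by
  obtain ⟨b, h, rfl⟩ := rootZ_form C hx
  refine mat_inj C ?_
  rw [mat_mul, mat_uEl, uu_mul, mat_one]
  ext i j
  fin_cases i <;> fin_cases j <;> simp [uu, CharTwo.add_self_eq_zero]

theorem invol_mem {g : G} (hg : g ∈ borel C) (h2 : g * g = 1) : g ∈ rootZ C := by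
  have hl : mat C g 0 0 = 1 := by
    have h := map_mul (lam C) ⟨g, hg⟩ ⟨g, hg⟩
    simp only [lam, MonoidHom.coe_mk, OneHom.coe_mk, MulMemClass.mk_mul_mk, h2, mat_one, Matrix.one_apply_eq] at h
    refine frobenius_inj F 2 ?_
    simp only [frobenius_def, pow_two, ← h, mul_one]
  have hr : g ∈ rad C := ⟨hg, hl⟩
  obtain ⟨a, b, h, rfl⟩ := rad_form C hr
  obtain ⟨h', e⟩ := GoldStruct.uEl_sq C h
  have := congrArg (fun x => mat C x 0 2) (e.symm.trans h2)
  simp [mat_uEl, mat_one, uu] at this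
  exact ⟨hr, by simpa [mat_uEl, uu] using this⟩

theorem fix_base {u : G} (hu : u ∈ rootZ C) (hu1 : u ≠ 1) {g : G} (hg : g⁻¹ * u * g ∈ borel C) : g ∈ borel C := by
  by_contra hgB
  refine hu1 (rad_eq_one C hu.1 (x := g • base C) (fun e => hgB ((smul_base_eq_iff C).1 e)) ?_)
  rw [← mul_smul, smul_base_eq_smul]
  rw [show (u * g)⁻¹ * g = (g⁻¹ * u * g)⁻¹ by group]
  exact inv_mem hg

theorem exists_conj_rootZ {s : G} (hs : s * s = 1) : ∃ x : G, x⁻¹ * s * x ∈ rootZ C := by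
  obtain ⟨p, hp⟩ := exists_fixed_of_inv C hs
  obtain ⟨x, rfl⟩ := exists_smul_base C p
  refine ⟨x, invol_mem C ?_ ?_⟩
  · rw [← smul_base_eq_iff, mul_smul, mul_smul, hp, inv_smul_smul]
  · rw [show x⁻¹ * s * x * (x⁻¹ * s * x) = x⁻¹ * (s * s) * x by group, hs]; group

theorem conj_rootZ {g u : G} (hg : g ∈ borel C) (hu : u ∈ rootZ C) : g * u * g⁻¹ ∈ rootZ C :=
  invol_mem C (mul_mem (mul_mem hg (rootZ_le_borel C hu)) (inv_mem hg))
    (by rw [show g * u * g⁻¹ * (g * u * g⁻¹) = g * (u * u) * g⁻¹ by group, rootZ_sq C hu]; group)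

/-! ### Elements of order three -/

theorem JJ : (SU3Root.J : M3) * SU3Root.J = 1 := by
  ext i j; fin_cases i <;> fin_cases j <;> simp [SU3Root.J, Matrix.mul_apply, Fin.sum_univ_three]

theorem mat_inv (g : G) : mat C g⁻¹ = (SU3Root.J : M3) * ((mat C g).map C.σ)ᵀ * SU3Root.J := by
  have hJt : (SU3Root.J : M3)ᵀ = SU3Root.J := by ext i j; fin_cases i <;> fin_cases j <;> simp [SU3Root.J]
  have h := congrArg Matrix.transpose (uni_mat C g).1
  rw [transpose_mul, transpose_mul, transpose_transpose, hJt, ← Matrix.mul_assoc] at h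
  have h1 : (SU3Root.J : M3) * ((mat C g).map C.σ)ᵀ * SU3Root.J * mat C g = 1 := by
    rw [Matrix.mul_assoc (SU3Root.J : M3), Matrix.mul_assoc (SU3Root.J : M3), h, JJ]
  calc mat C g⁻¹ = (SU3Root.J : M3) * ((mat C g).map C.σ)ᵀ * SU3Root.J * mat C g * mat C g⁻¹ := by
        rw [h1, Matrix.one_mul]
    _ = _ := by rw [Matrix.mul_assoc, mat_mul_inv, Matrix.mul_one]

theorem cube_of_trace {g : G} (h : (mat C g).trace = 0) : g ^ 3 = 1 := by
  obtain ⟨M, hM⟩ : ∃ M, M = mat C g := ⟨_, rfl⟩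
  have hd : M.det = 1 := hM ▸ (uni_mat C g).2
  have hadj : M.adjugate = mat C g⁻¹ := by
    calc M.adjugate = mat C g⁻¹ * (M * M.adjugate) := by
          rw [← Matrix.mul_assoc, hM, ← mat_mul, inv_mul_cancel, mat_one, Matrix.one_mul]
      _ = _ := by rw [Matrix.mul_adjugate, hd, one_smul, Matrix.mul_one]
  have hs : M.adjugate.trace = 0 := by
    rw [hadj, mat_inv, Matrix.trace_mul_comm, ← Matrix.mul_assoc, JJ, Matrix.one_mul, Matrix.trace_transpose]
    simp only [Matrix.trace, Matrix.diag_apply, Matrix.map_apply] at h ⊢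
    rw [← map_sum, h, map_zero]
  rw [← hM] at h
  simp [Matrix.trace, Fin.sum_univ_three, Matrix.adjugate_fin_three] at hs h
  rw [det_fin_three] at hd
  refine mat_inj C ?_
  rw [pow_succ, pow_two, mat_mul, mat_mul, mat_one, ← hM]
  ext i j
  fin_cases i <;> fin_cases j <;> simp [Matrix.mul_apply, Fin.sum_univ_three]
  · linear_combination hd + (M 0 0 * M 0 0 + M 0 1 * M 1 0 + M 0 2 * M 2 0) * h - M 0 0 * hs
  · linear_combination (M 0 0 * M 0 1 + M 0 1 * M 1 1 + M 0 2 * M 2 1) * h - M 0 1 * hs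
  · linear_combination (M 0 0 * M 0 2 + M 0 1 * M 1 2 + M 0 2 * M 2 2) * h - M 0 2 * hs
  · linear_combination (M 1 0 * M 0 0 + M 1 1 * M 1 0 + M 1 2 * M 2 0) * h - M 1 0 * hs
  · linear_combination hd + (M 1 0 * M 0 1 + M 1 1 * M 1 1 + M 1 2 * M 2 1) * h - M 1 1 * hs
  · linear_combination (M 1 0 * M 0 2 + M 1 1 * M 1 2 + M 1 2 * M 2 2) * h - M 1 2 * hs
  · linear_combination (M 2 0 * M 0 0 + M 2 1 * M 1 0 + M 2 2 * M 2 0) * h - M 2 0 * hs
  · linear_combination (M 2 0 * M 0 1 + M 2 1 * M 1 1 + M 2 2 * M 2 1) * h - M 2 1 * hs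
  · linear_combination hd + (M 2 0 * M 0 2 + M 2 1 * M 1 2 + M 2 2 * M 2 2) * h - M 2 2 * hs

/-! ### An orthonormal frame -/

/-- An orthonormal frame with the second isotropic coordinate vector fixed. -/
structure OFrame where
  t : F
  r : F
  ht : t + C.σ t = 1
  hr : r * C.σ t = t

theorem exists_oframe : Nonempty (OFrame C) := by
  obtain ⟨t, ht⟩ := exists_trace C.hne C.hinv (x := 1) (map_one _)
  refine ⟨⟨t, t / C.σ t, ht, div_mul_cancel₀ _ ((map_ne_zero C.σ).2 ?_)⟩⟩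
  rintro rfl
  simp at ht

variable {C} (O : OFrame C)

theorem OFrame.t_ne : O.t ≠ 0 := by
  intro e
  have := O.ht
  rw [e] at this
  simp at this

theorem OFrame.sigma_r : C.σ O.r * O.t = C.σ O.t := by
  have := congrArg C.σ O.hr
  rwa [map_mul, C.hinv] at this

/-- From the orthonormal frame to the antidiagonal one. -/
def OFrame.T : M3 := !![1, 0, O.r; 0, 1, 0; O.t, 0, O.t]

/-- Its inverse. -/
def OFrame.T' : M3 := !![C.σ O.t, 0, 1; 0, 1, 0; C.σ O.t, 0, C.σ O.r]

theorem OFrame.inv_left : O.T' * O.T = 1 := by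
  have h2 : (2 : F) = 0 := CharTwo.two_eq_zero
  ext i j
  fin_cases i <;> fin_cases j <;> simp [OFrame.T, OFrame.T', Matrix.mul_apply, Fin.sum_univ_three]
  · linear_combination O.ht
  · linear_combination O.hr + O.t * h2
  · linear_combination O.sigma_r + C.σ O.t * h2
  · linear_combination O.hr + O.sigma_r + O.ht

theorem OFrame.inv_right : O.T * O.T' = 1 :=
  mul_eq_one_comm.1 O.inv_left

/-- The matrix in the orthonormal frame. -/
def OFrame.xm (g : G) : M3 := O.T' * mat C g * O.T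

theorem OFrame.mat_eq (g : G) : mat C g = O.T * O.xm g * O.T' := by
  rw [OFrame.xm, ← Matrix.mul_assoc, ← Matrix.mul_assoc, O.inv_right, Matrix.one_mul, Matrix.mul_assoc,
    O.inv_right, Matrix.mul_one]

theorem OFrame.xm_mul (g h : G) : O.xm (g * h) = O.xm g * O.xm h := by
  rw [OFrame.xm, OFrame.xm, OFrame.xm, mat_mul]
  calc O.T' * (mat C g * mat C h) * O.T = O.T' * mat C g * (O.T * O.T') * (mat C h * O.T) := by
        rw [O.inv_right, Matrix.mul_one]; simp only [Matrix.mul_assoc]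
    _ = _ := by simp only [Matrix.mul_assoc]

theorem OFrame.xm_one : O.xm 1 = 1 := by rw [OFrame.xm, mat_one, Matrix.mul_one, O.inv_left]

theorem OFrame.xm_inj {g h : G} (e : O.xm g = O.xm h) : g = h :=
  mat_inj C (by rw [O.mat_eq, O.mat_eq h, e])

theorem OFrame.form : O.Tᵀ * (SU3Root.J : M3) * O.T.map C.σ = 1 := by
  have h2 : (2 : F) = 0 := CharTwo.two_eq_zero
  ext i j
  fin_cases i <;> fin_cases j <;>
    simp [OFrame.T, SU3Root.J, Matrix.mul_apply, Fin.sum_univ_three]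
  · linear_combination O.ht
  · linear_combination O.sigma_r + C.σ O.t * h2
  · linear_combination O.hr + O.t * h2
  · linear_combination O.hr + O.sigma_r + O.ht

theorem OFrame.xm_unitary (g : G) : (O.xm g)ᵀ * (O.xm g).map C.σ = 1 := by
  have h := O.mat_eq g
  have hf := (uni_mat C g).1
  calc (O.xm g)ᵀ * (O.xm g).map C.σ
      = (O.xm g)ᵀ * (O.Tᵀ * (SU3Root.J : M3) * O.T.map C.σ) * (O.xm g).map C.σ := by
        rw [O.form, Matrix.mul_one]
    _ = (mat C g * O.T)ᵀ * (SU3Root.J : M3) * (mat C g * O.T).map C.σ := by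
        have e : mat C g * O.T = O.T * O.xm g := by
          rw [h, Matrix.mul_assoc, O.inv_left, Matrix.mul_one]
        rw [e, transpose_mul, Matrix.map_mul]
        simp only [Matrix.mul_assoc]
    _ = O.Tᵀ * ((mat C g)ᵀ * (SU3Root.J : M3) * (mat C g).map C.σ) * O.T.map C.σ := by
        rw [transpose_mul, Matrix.map_mul]; simp only [Matrix.mul_assoc]
    _ = 1 := by rw [hf, O.form]

theorem OFrame.xm_det (g : G) : (O.xm g).det = 1 := by
  rw [OFrame.xm, det_mul, det_mul, (uni_mat C g).2, mul_one, ← det_mul, O.inv_left, det_one]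

theorem OFrame.exists_el (X : M3) (h : Xᵀ * X.map C.σ = 1) (hd : X.det = 1) : ∃ g : G, O.xm g = X := by
  have hM : Uni C.σ (O.T * X * O.T') := by
    refine ⟨?_, by rw [det_mul, det_mul, hd, mul_one, ← det_mul, O.inv_right, det_one]⟩
    have e1 : O.Tᵀ * (SU3Root.J : M3) * O.T.map C.σ = 1 := O.form
    calc (O.T * X * O.T')ᵀ * (SU3Root.J : M3) * (O.T * X * O.T').map C.σ
        = O.T'ᵀ * (Xᵀ * (O.Tᵀ * (SU3Root.J : M3) * O.T.map C.σ) * X.map C.σ) * O.T'.map C.σ := by
          rw [transpose_mul, transpose_mul, Matrix.map_mul, Matrix.map_mul]; simp only [Matrix.mul_assoc]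
      _ = O.T'ᵀ * (O.Tᵀ * (SU3Root.J : M3) * O.T.map C.σ) * O.T'.map C.σ := by rw [e1, Matrix.mul_one, h]
      _ = (O.T * O.T')ᵀ * (SU3Root.J : M3) * (O.T * O.T').map C.σ := by
          rw [transpose_mul, Matrix.map_mul]; simp only [Matrix.mul_assoc]
      _ = SU3Root.J := by
          rw [O.inv_right, transpose_one, Matrix.map_one _ (map_zero _) (map_one _), Matrix.one_mul, Matrix.mul_one]
  exact ⟨el C _ hM, by
    rw [OFrame.xm, mat_el, ← Matrix.mul_assoc, ← Matrix.mul_assoc, O.inv_left, Matrix.one_mul, Matrix.mul_assoc,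
      O.inv_left, Matrix.mul_one]⟩

end Cfsg.Agent.BinInvol
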