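import Cfsg.Agent.Lib.BinInvol.Basic
import Cfsg.Agent.Lib.BinInvol.UnitaryBase
import Cfsg.Agent.S0283

/-!
`SU₃(q)`, `q` even: a subgroup of binary type holding two root groups does not exist.
-/

set_option autoImplicit false
set_option linter.unusedSectionVars false
set_option linter.unusedSimpArgs false

namespace Cfsg.Agent.BinInvol

open Matrix Hermitian PSU3Index
open Cfsg.Agent.SU3Root (Uni uu dd ww)
open Cfsg.Agent.SzBinary (BinaryOn Crit crit_of_binary)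

universe u

variable {F : Type u} [Field F] [Fintype F] [CharP F 2] {q : ℕ} {C : Ctx F q}

local notation "M3" => Matrix (Fin 3) (Fin 3) F
set_option quotPrecheck false in
local notation "G" => ↥(Cfsg.SU 3 F q)

/-- The standing hypotheses. -/
structure Hyp (C : Ctx F q) (H : Subgroup G) : Prop where
  q4 : 4 ≤ q
  bin : BinaryOn H
  one : OneClass G
  cen : Subgroup.center G ≤ H
  ne : H ≠ ⊤
  root : rootZ C ≤ H

/-- Fixing the middle coordinate line and its complement. -/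
structure Blk (M : M3) : Prop where
  h01 : M 0 1 = 0
  h10 : M 1 0 = 0
  h12 : M 1 2 = 0
  h21 : M 2 1 = 0

theorem Blk.mul {M N : M3} (hM : Blk M) (hN : Blk N) :
    Blk (M * N) ∧ (M * N) 1 1 = M 1 1 * N 1 1 := by
  refine ⟨⟨?_, ?_, ?_, ?_⟩, ?_⟩ <;>
    simp [Matrix.mul_apply, Fin.sum_univ_three, hM.h01, hM.h10, hM.h12, hM.h21, hN.h01, hN.h10, hN.h12, hN.h21]

theorem blk_xm (O : OFrame C) {g : G} : Blk (O.xm g) ↔ Blk (mat C g) := by
  constructor
  · intro h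
    rw [O.mat_eq]
    constructor <;>
      simp [OFrame.T, OFrame.T', Matrix.mul_apply, Matrix.vecMul, dotProduct, Fin.sum_univ_three, h.h01, h.h10, h.h12, h.h21]
  · intro h
    constructor <;>
      simp [OFrame.xm, OFrame.T, OFrame.T', Matrix.mul_apply, Matrix.vecMul, dotProduct, Fin.sum_univ_three, h.h01, h.h10, h.h12, h.h21]

theorem xm_mid (O : OFrame C) (g : G) : O.xm g 1 1 = mat C g 1 1 := by
  simp [OFrame.xm, OFrame.T, OFrame.T', Matrix.mul_apply, Matrix.vecMul, dotProduct, Fin.sum_univ_three]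

theorem form_eq (g : G) (i j : Fin 3) :
    ((mat C g)ᵀ * (SU3Root.J : M3) * (mat C g).map C.σ) i j = (SU3Root.J : M3) i j := by
  rw [(uni_mat C g).1]

theorem Blk.inv {g : G} (h : Blk (mat C g)) : Blk (mat C g⁻¹) ∧ mat C g 1 1 * mat C g⁻¹ 1 1 = 1 := by
  have e : Blk (mat C g⁻¹) := by
    rw [mat_inv]
    constructor <;>
      simp [SU3Root.J, Matrix.mul_apply, Matrix.vecMul, dotProduct, Fin.sum_univ_three, h.h01, h.h10, h.h12, h.h21]
  refine ⟨e, ?_⟩
  rw [← (h.mul e).2, mat_mul_inv, Matrix.one_apply_eq]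

/-- Two root groups give the whole block of determinant one. -/
theorem block_mem {H : Subgroup G} (hZ : rootZ C ≤ H) (hW : ∀ z ∈ rootZ C, wEl C * z * wEl C ∈ H) {g : G}
    (hg : Blk (mat C g)) (h1 : mat C g 1 1 = 1) : g ∈ H := by
  suffices key : ∀ g : G, Blk (mat C g) → mat C g 1 1 = 1 → mat C g 2 0 ≠ 0 → g ∈ H by
    by_cases hγ : mat C g 2 0 = 0
    · have h0 : (0 : F) + 0 * C.σ (0 : F) = 0 := by simp
      have hu : (1 : F) + C.σ 1 + 0 * C.σ (0 : F) = 0 := by simp [CharTwo.add_self_eq_zero]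
      obtain ⟨v, hv⟩ : ∃ v, v = wEl C * uEl C 0 1 hu * wEl C := ⟨_, rfl⟩
      have hmv : mat C v = !![1, 0, 0; 0, 1, 0; 1, 0, 1] := by
        rw [hv, mat_mul, mat_mul, mat_wEl, mat_uEl]
        ext i j
        fin_cases i <;> fin_cases j <;> simp [ww, uu, Matrix.mul_apply, Fin.sum_univ_three]
      have hvH : v ∈ H := hv ▸ hW _ (uEl_mem_rootZ C hu)
      have hbv : Blk (mat C v) := by rw [hmv]; constructor <;> simp
      obtain ⟨hb, hm⟩ := hg.mul hbv
      rw [← mat_mul] at hb hm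
      refine (Subgroup.mul_mem_cancel_right H hvH).1 (key (g * v) hb (by rw [hm, h1, hmv]; simp) ?_)
      have hd := (uni_mat C g).2
      rw [det_fin_three, hg.h10, hg.h12, hg.h21, hγ] at hd
      rw [mat_mul, hmv]
      simp [Matrix.mul_apply, Fin.sum_univ_three, hγ]
      intro e
      rw [e] at hd
      simp at hd
    · exact key g hg h1 hγ
  intro g hg h1 hγ
  obtain ⟨M, hM⟩ : ∃ M, M = mat C g := ⟨_, rfl⟩
  rw [← hM] at hg h1 hγ
  have h2 : (2 : F) = 0 := CharTwo.two_eq_zero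
  have e00 := form_eq (C := C) g 0 0
  have e02 := form_eq (C := C) g 0 2
  have e20 := form_eq (C := C) g 2 0
  have e22 := form_eq (C := C) g 2 2
  have hd := (uni_mat C g).2
  rw [← hM] at e00 e02 e20 e22 hd
  simp [SU3Root.J, Matrix.mul_apply, Fin.sum_univ_three, hg.h01, hg.h10, hg.h12, hg.h21] at e00 e02 e20 e22
  rw [det_fin_three, hg.h01, hg.h10, hg.h12, hg.h21, h1] at hd
  have hα : C.σ (M 0 0) = M 0 0 := by
    linear_combination M 0 0 * e20 - M 0 2 * e00 - C.σ (M 0 0) * hd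
  have hγ' : C.σ (M 2 0) = M 2 0 := by
    linear_combination M 2 2 * e00 - M 2 0 * e20 - C.σ (M 2 0) * hd - M 2 0 * h2
  have hη : C.σ (M 2 2) = M 2 2 := by
    linear_combination (-(C.σ (M 2 2))) * hd + M 2 2 * e02 - M 2 0 * e22
  have hu1 : (M 0 0 + 1) / M 2 0 + C.σ ((M 0 0 + 1) / M 2 0) + 0 * C.σ (0 : F) = 0 := by
    rw [map_div₀, map_add, map_one, hα, hγ', zero_mul, add_zero, CharTwo.add_self_eq_zero]
  have hu2 : M 2 0 + C.σ (M 2 0) + 0 * C.σ (0 : F) = 0 := by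
    rw [hγ', zero_mul, add_zero, CharTwo.add_self_eq_zero]
  have hu3 : (M 2 2 + 1) / M 2 0 + C.σ ((M 2 2 + 1) / M 2 0) + 0 * C.σ (0 : F) = 0 := by
    rw [map_div₀, map_add, map_one, hη, hγ', zero_mul, add_zero, CharTwo.add_self_eq_zero]
  have e : g = uEl C 0 _ hu1 * (wEl C * uEl C 0 _ hu2 * wEl C) * uEl C 0 _ hu3 := by
    refine mat_inj C ?_
    rw [mat_mul, mat_mul, mat_mul, mat_mul, mat_wEl, mat_uEl, mat_uEl, mat_uEl, ← hM]
    ext i j
    fin_cases i <;> fin_cases j <;>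
      simp [ww, uu, Matrix.mul_apply, Fin.sum_univ_three, hg.h01, hg.h10, hg.h12, hg.h21, h1]
    all_goals field_simp
    · linear_combination (-1 : F) * h2
    · linear_combination hd - (M 0 0 + M 2 2 + M 0 0 * M 2 2) * h2 + (M 0 2 * M 2 0 - 1) * h2
    · linear_combination (-1 : F) * h2
  rw [e]
  exact mul_mem (mul_mem (hZ (uEl_mem_rootZ C hu1)) (hW _ (uEl_mem_rootZ C hu2))) (hZ (uEl_mem_rootZ C hu3))

/-- A point with non-zero middle coordinate gives every root group. -/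
theorem all_mem {H : Subgroup G} (hZ : rootZ C ≤ H) (hW : ∀ z ∈ rootZ C, wEl C * z * wEl C ∈ H) {g₀ : G}
    (h₀ : mat C g₀ 1 0 ≠ 0) (hc₀ : ∀ z ∈ rootZ C, g₀ * z * g₀⁻¹ ∈ H) :
    ∀ g : G, ∀ z ∈ rootZ C, g * z * g⁻¹ ∈ H := by
  intro g z hz
  by_cases hgB : g ∈ borel C
  · exact hZ (conj_rootZ C hgB hz)
  by_cases h1 : mat C g 1 0 = 0
  · obtain ⟨a, b, h, hβ⟩ := bruhat C hgB
    obtain ⟨β, hβd⟩ : ∃ β, β = (uEl C a b h * wEl C)⁻¹ * g := ⟨_, rfl⟩
    rw [← hβd] at hβ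
    have e : g = uEl C a b h * wEl C * β := by rw [hβd, mul_inv_cancel_left]
    obtain rfl : a = 0 := by
      have hb0 := lam_ne_zero C ⟨β, hβ⟩
      rw [e, mat_mul, mat_mul, mat_uEl, mat_wEl] at h1
      simp [uu, ww, Matrix.mul_apply, Fin.sum_univ_three, hβ.1, hβ.2] at h1
      exact h1.resolve_right hb0
    have hu : uEl C 0 b h ∈ H := hZ (uEl_mem_rootZ C h)
    rw [e, show uEl C 0 b h * wEl C * β * z * (uEl C 0 b h * wEl C * β)⁻¹ =
      uEl C 0 b h * (wEl C * (β * z * β⁻¹) * (wEl C)⁻¹) * (uEl C 0 b h)⁻¹ by group,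
      show (wEl C)⁻¹ = wEl C from inv_eq_of_mul_eq_one_right (wEl_sq C)]
    exact mul_mem (mul_mem hu (hW _ (conj_rootZ C hβ hz))) (inv_mem hu)
  -- both columns are normalised
  obtain ⟨x, hx⟩ : ∃ x : Fin 3 → F, x = fun i => mat C g₀ i 0 / mat C g₀ 1 0 := ⟨_, rfl⟩
  obtain ⟨y, hy⟩ : ∃ y : Fin 3 → F, y = fun i => mat C g i 0 / mat C g 1 0 := ⟨_, rfl⟩
  have iso : ∀ g : G, mat C g 1 0 ≠ 0 → ∀ v : Fin 3 → F, (v = fun i => mat C g i 0 / mat C g 1 0) →
      v 0 * C.σ (v 2) + v 2 * C.σ (v 0) = 1 := by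
    intro g hg v hv
    have e := form_eq (C := C) g 0 0
    simp [SU3Root.J, Matrix.mul_apply, Fin.sum_univ_three] at e
    have hσ : C.σ (mat C g 1 0) ≠ 0 := (map_ne_zero C.σ).2 hg
    simp only [hv, map_div₀]
    field_simp
    linear_combination e - (mat C g 1 0 * C.σ (mat C g 1 0)) * (CharTwo.two_eq_zero : (2 : F) = 0)
  have nx := iso g₀ h₀ x hx
  have ny := iso g h1 y hy
  have h2 : (2 : F) = 0 := CharTwo.two_eq_zero
  obtain ⟨A, hA⟩ : ∃ A : M3, A = !![y 0 * C.σ (x 2) + C.σ (y 0) * x 2, 0, y 0 * C.σ (x 0) + C.σ (y 0) * x 0;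
      0, 1, 0; y 2 * C.σ (x 2) + C.σ (y 2) * x 2, 0, y 2 * C.σ (x 0) + C.σ (y 2) * x 0] := ⟨_, rfl⟩
  have hdet : A.det = 1 := by
    rw [hA, det_fin_three]
    simp
    linear_combination (x 0 * C.σ (x 2) + x 2 * C.σ (x 0)) * ny + nx
      - (y 0 * C.σ (y 2) * (x 2 * C.σ (x 0)) + y 2 * C.σ (y 0) * (x 0 * C.σ (x 2))) * h2
  have hU : Uni C.σ A := by
    refine ⟨?_, hdet⟩
    rw [hA, det_fin_three] at hdet
    simp at hdet
    rw [hA]
    ext i j
    fin_cases i <;> fin_cases j <;>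
      simp [SU3Root.J, Matrix.mul_apply, Fin.sum_univ_three, C.hinv]
    · linear_combination ((y 0 * C.σ (x 2) + C.σ (y 0) * x 2) * (y 2 * C.σ (x 2) + C.σ (y 2) * x 2)) * h2
    · linear_combination hdet + ((y 0 * C.σ (x 0) + C.σ (y 0) * x 0) * (y 2 * C.σ (x 2) + C.σ (y 2) * x 2)) * h2
    · linear_combination hdet + ((y 0 * C.σ (x 0) + C.σ (y 0) * x 0) * (y 2 * C.σ (x 2) + C.σ (y 2) * x 2)) * h2
    · linear_combination ((y 0 * C.σ (x 0) + C.σ (y 0) * x 0) * (y 2 * C.σ (x 0) + C.σ (y 2) * x 0)) * h2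
  obtain ⟨l, hl⟩ : ∃ l, l = el C A hU := ⟨_, rfl⟩
  have hml : mat C l = A := hl ▸ mat_el C A hU
  have hlH : l ∈ H := block_mem hZ hW (by rw [hml, hA]; constructor <;> simp) (by rw [hml, hA]; simp)
  obtain ⟨μ, hμ⟩ : ∃ μ, μ = mat C g₀ 1 0 / mat C g 1 0 := ⟨_, rfl⟩
  have hcol : ∀ i, mat C (l * g₀) i 0 = μ * mat C g i 0 := by
    have ex : ∀ i, mat C g₀ i 0 = mat C g₀ 1 0 * x i := fun i => by rw [hx]; field_simp
    have ey : ∀ i, μ * mat C g i 0 = mat C g₀ 1 0 * y i := fun i => by rw [hy, hμ]; field_simp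
    have y1 : y 1 = 1 := by rw [hy]; exact div_self h1
    have x1 : x 1 = 1 := by rw [hx]; exact div_self h₀
    intro i
    rw [ey, mat_mul, hml, Matrix.mul_apply, Fin.sum_univ_three, ex 0, ex 1, ex 2, hA]
    fin_cases i <;> simp [x1, y1]
    · linear_combination mat C g₀ 1 0 * y 0 * nx + mat C g₀ 1 0 * C.σ (y 0) * (x 2 * x 0) * h2
    · linear_combination mat C g₀ 1 0 * y 2 * nx + mat C g₀ 1 0 * C.σ (y 2) * (x 2 * x 0) * h2
  have hβ : g⁻¹ * (l * g₀) ∈ borel C := by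
    have hk : ∀ i, mat C (g⁻¹ * (l * g₀)) i 0 = μ * mat C (1 : G) i 0 := fun i => by
      rw [← inv_mul_cancel g, mat_mul, mat_mul C g⁻¹ g, Matrix.mul_apply, Matrix.mul_apply]
      simp only [Fin.sum_univ_three, hcol]
      ring
    exact (mem_borel C).2 ⟨by rw [hk]; simp [mat_one], by rw [hk]; simp [mat_one]⟩
  obtain ⟨β, hβd⟩ : ∃ β, β = g⁻¹ * (l * g₀) := ⟨_, rfl⟩
  rw [← hβd] at hβ
  have e : g * z * g⁻¹ = l * (g₀ * (β⁻¹ * z * β⁻¹⁻¹) * g₀⁻¹) * l⁻¹ := by rw [hβd]; group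
  rw [e]
  exact mul_mem (mul_mem hlH (hc₀ _ (conj_rootZ C (inv_mem hβ) hz))) (inv_mem hlH)

theorem eq_top_of_all_roots {H : Subgroup G} (h4 : 4 ≤ q) (hcen : Subgroup.center G ≤ H)
    (hall : ∀ g : G, ∀ z ∈ rootZ C, g * z * g⁻¹ ∈ H) : H = ⊤ := by
  haveI : IsSimpleGroup (Cfsg.PSU 3 F q) :=
    Cfsg.Agent.S0283.result (by rw [← Nat.card_eq_fintype_card, card_F C]) 3 le_rfl (by omega)
  let N : Subgroup G := Subgroup.normalClosure (rootZ C : Set G)
  have hNH : N ≤ H := (Subgroup.closure_le H).2 fun x hx => by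
    obtain ⟨a, ha, hax⟩ := Group.mem_conjugatesOfSet_iff.1 hx
    obtain ⟨c, rfl⟩ := isConj_iff.1 hax
    exact hall c a ha
  obtain ⟨φ, hφ⟩ : ∃ φ, φ = QuotientGroup.mk' (Subgroup.center G) := ⟨_, rfl⟩
  have hφs : Function.Surjective φ := hφ ▸ QuotientGroup.mk'_surjective _
  rcases (Subgroup.Normal.map (Subgroup.normalClosure_normal (s := (rootZ C : Set G))) φ hφs).eq_bot_or_eq_top
    with h | h
  · exfalso
    have hu : (1 : F) + C.σ 1 + 0 * C.σ (0 : F) = 0 := by simp [CharTwo.add_self_eq_zero]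
    have hm : φ (uEl C 0 1 hu) ∈ N.map φ :=
      ⟨_, Subgroup.subset_normalClosure (uEl_mem_rootZ C hu), rfl⟩
    rw [h, Subgroup.mem_bot, hφ, QuotientGroup.mk'_apply, QuotientGroup.eq_one_iff] at hm
    have hs := congrArg (fun x => mat C x 0 0) ((Subgroup.mem_center_iff.1 hm) (wEl C))
    simp [mat_mul, mat_uEl, mat_wEl, uu, ww, Matrix.mul_apply, Fin.sum_univ_three] at hs
  · refine top_le_iff.1 fun g _ => ?_
    have hg : φ g ∈ N.map φ := by rw [h]; exact Subgroup.mem_top _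
    obtain ⟨n, hn, hng⟩ := hg
    rw [hφ, QuotientGroup.mk'_apply, QuotientGroup.mk'_apply, QuotientGroup.eq] at hng
    simpa using mul_mem (hNH hn) (hcen hng)

theorem blk_of_hyp {H : Subgroup G} (hyp : Hyp C H) (hW : ∀ z ∈ rootZ C, wEl C * z * wEl C ∈ H) {h : G}
    (hh : h ∈ H) : Blk (mat C h) := by
  have hcol : ∀ g₀ : G, (∀ z ∈ rootZ C, g₀ * z * g₀⁻¹ ∈ H) → mat C g₀ 1 0 = 0 := fun g₀ hc => by
    by_contra h₀
    exact hyp.ne (eq_top_of_all_roots hyp.q4 hyp.cen (all_mem hyp.root hW h₀ hc))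
  have h10 : mat C h 1 0 = 0 := hcol h fun z hz => mul_mem (mul_mem hh (hyp.root hz)) (inv_mem hh)
  have h12 : mat C h 1 2 = 0 := by
    have := hcol (h * wEl C) fun z hz => by
      rw [show h * wEl C * z * (h * wEl C)⁻¹ = h * (wEl C * z * (wEl C)⁻¹) * h⁻¹ by group,
        show (wEl C)⁻¹ = wEl C from inv_eq_of_mul_eq_one_right (wEl_sq C)]
      exact mul_mem (mul_mem hh (hW z hz)) (inv_mem hh)
    simpa [mat_mul, mat_wEl, ww, Matrix.mul_apply, Fin.sum_univ_three] using this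
  have e10 := form_eq (C := C) h 1 0
  have e12 := form_eq (C := C) h 1 2
  have hd := (uni_mat C h).2
  simp [SU3Root.J, Matrix.mul_apply, Fin.sum_univ_three, h10, h12] at e10 e12
  rw [det_fin_three, h10, h12] at hd
  have hb : mat C h 0 0 * mat C h 2 2 - mat C h 0 2 * mat C h 2 0 ≠ 0 := fun e => by
    have : (0 : F) = 1 := by linear_combination hd - mat C h 1 1 * e
    exact zero_ne_one this
  have hb' := (map_ne_zero C.σ).2 hb
  rw [map_sub, map_mul, map_mul] at hb'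
  refine ⟨?_, h10, h12, ?_⟩
  · have : mat C h 0 1 * (C.σ (mat C h 0 0) * C.σ (mat C h 2 2) - C.σ (mat C h 0 2) * C.σ (mat C h 2 0)) = 0 := by
      linear_combination C.σ (mat C h 0 0) * e12 - C.σ (mat C h 0 2) * e10
    exact (mul_eq_zero.1 this).resolve_right hb'
  · have : mat C h 2 1 * (C.σ (mat C h 0 0) * C.σ (mat C h 2 2) - C.σ (mat C h 0 2) * C.σ (mat C h 2 0)) = 0 := by
      linear_combination C.σ (mat C h 2 2) * e10 - C.σ (mat C h 2 0) * e12
    exact (mul_eq_zero.1 this).resolve_right hb'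

theorem mem_of_mid {H : Subgroup G} (hyp : Hyp C H) (hW : ∀ z ∈ rootZ C, wEl C * z * wEl C ∈ H) {g : G}
    (hg : Blk (mat C g)) {h : G} (hh : h ∈ H) (e : mat C h 1 1 = mat C g 1 1) : g ∈ H := by
  obtain ⟨hi, hm⟩ := (blk_of_hyp hyp hW hh).inv
  obtain ⟨hb, hm'⟩ := hi.mul hg
  rw [← mat_mul] at hb hm'
  have := block_mem hyp.root hW hb (by rw [hm', ← e]; linear_combination hm)
  exact (Subgroup.mul_mem_cancel_left H (inv_mem hh)).1 this

end Cfsg.Agent.BinInvol
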