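import Cfsg.Agent.Lib.BinInvol.UnitaryFrame

/-!
`SU₃(q)`, `q` even: a binary point stabiliser holding a root group is that root group with the centre.
-/

set_option autoImplicit false
set_option linter.unusedSectionVars false
set_option linter.unusedSimpArgs false

namespace Cfsg.Agent.BinInvol

open Matrix Hermitian PSU3Index
open Cfsg.Agent.SU3Root (Uni uu dd ww)
open Cfsg.Agent.SzBinary (BinaryOn Crit crit_of_binary)

universe u

variable {F : Type u} [Field F] [Fintype F] [CharP F 2] {q : ℕ} {C : Ctx F q}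

local notation "M3" => Matrix (Fin 3) (Fin 3) F
set_option quotPrecheck false in
local notation "G" => ↥(Cfsg.SU 3 F q)

theorem Hyp.comap {H : Subgroup G} (hyp : Hyp C H) (u : G) (hu : u ∈ borel C) :
    Hyp C (H.comap (MulAut.conj u).toMonoidHom) where
  q4 := hyp.q4
  bin := binary_comap _ (MulAut.conj u).surjective hyp.bin
  one := hyp.one
  cen := fun z hz => by
    show u * z * u⁻¹ ∈ H
    rw [(Subgroup.mem_center_iff.1 hz u), mul_inv_cancel_right]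
    exact hyp.cen hz
  ne := fun h => hyp.ne (top_le_iff.1 fun x _ => by
    have hx : u⁻¹ * x * u ∈ H.comap (MulAut.conj u).toMonoidHom := h ▸ Subgroup.mem_top _
    simpa [mul_assoc] using hx)
  root := fun z hz => hyp.root (conj_rootZ C hu hz)

theorem dd_two {l : F} (hl : C.σ l = l⁻¹) : dd C.σ l = !![l, 0, 0; 0, l⁻¹ ^ 2, 0; 0, 0, l] := by
  ext i j
  fin_cases i <;> fin_cases j <;> simp [dd, hl, div_eq_mul_inv, pow_two]

theorem pow_cube_mem (C : Ctx F q) {h : G} (hh : h ∈ borel C) :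
    (h ^ (q ^ 3)) ^ (q ^ 2 - 1) = 1 ∧ mat C (h ^ (q ^ 3)) 0 0 = mat C h 0 0 ^ (q ^ 3) := by
  have hl : ∀ n : ℕ, mat C (h ^ n) 0 0 = mat C h 0 0 ^ n := fun n => map_pow (lam C) ⟨h, hh⟩ n
  refine ⟨?_, hl _⟩
  have hr : h ^ (q ^ 2 - 1) ∈ rad C := by
    refine ⟨pow_mem hh _, ?_⟩
    rw [hl, ← card_F C, Nat.card_eq_fintype_card]
    exact FiniteField.pow_card_sub_one_eq_one _ (lam_ne_zero C ⟨h, hh⟩)
  have h1 : (⟨_, hr⟩ : rad C) ^ Nat.card (rad C) = 1 := pow_card_eq_one'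
  rw [card_rad C] at h1
  rw [← pow_mul, mul_comm, pow_mul]
  exact congrArg Subtype.val h1

section
variable {H : Subgroup ↥(Cfsg.SU 3 F q)} (hyp : Hyp C H) (hle : H ≤ borel C)
include hyp hle

theorem no_split {n : F} (hn0 : n ≠ 0) (hσ : C.σ n = n) (hn : n ≠ 1) (hd : dEl C n hn0 ∈ H) : False := by
  obtain ⟨d, hdd⟩ : ∃ d, d = dEl C n hn0 := ⟨_, rfl⟩
  rw [← hdd] at hd
  obtain ⟨w, hw⟩ : ∃ w, w = wEl C := ⟨_, rfl⟩
  have hww : w * w = 1 := hw ▸ wEl_sq C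
  have hwB : w ∉ borel C := hw ▸ wEl_not_mem C
  have hrev : w * d * w * d = 1 := by
    refine mat_inj C ?_
    rw [hw, hdd, mat_mul, mat_mul, mat_mul, mat_wEl, mat_dEl, mat_one]
    ext i j
    fin_cases i <;> fin_cases j <;> simp [ww, dd, hσ, hn0, Matrix.mul_apply, Fin.sum_univ_three]
  have hc2 : w * d * (w * d) = 1 := by rw [← mul_assoc]; exact hrev
  have hwo : orderOf w = 2 := Invol.order_two_of_sq hww fun e => hwB (e ▸ one_mem _)
  have hcB : w * d ∉ borel C := fun e => hwB ((Subgroup.mul_mem_cancel_right _ (hle hd)).1 e)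
  obtain ⟨x, hx⟩ := exists_conj_rootZ C hc2
  have hfix : ∀ g x : G, g • ((x : G) : G ⧸ H) = ((x : G) : G ⧸ H) ↔ x⁻¹ * g * x ∈ H := fun g x => by
    rw [MulAction.Quotient.smul_coe, eq_comm, QuotientGroup.eq, smul_eq_mul, mul_assoc]
  refine no_swap hyp.bin hyp.one hwo (g := w * d) (y := ((x : G) : G ⧸ H)) (z := ((1 : G) : G ⧸ H))
    (fun e => ?_) (fun e => ?_) ((hfix _ _).2 (hyp.root hx)) ?_
  · have hmem : x⁻¹ * w * x ∈ rootZ C := invol_mem C (hle ((hfix w x).1 e)) (by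
      rw [show x⁻¹ * w * x * (x⁻¹ * w * x) = x⁻¹ * (w * w) * x by group, hww]; group)
    have hcomm := rootZ_comm C hx hmem
    have hc : w * d * w = w * (w * d) := by
      calc w * d * w = x * (x⁻¹ * (w * d) * x * (x⁻¹ * w * x)) * x⁻¹ := by group
        _ = x * (x⁻¹ * w * x * (x⁻¹ * (w * d) * x)) * x⁻¹ := by rw [hcomm]
        _ = w * (w * d) := by group
    rw [← mul_assoc w w d, hww, one_mul] at hc
    have hdd1 : d * d = 1 := by nth_rw 1 [← hc]; exact hrev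
    have := congrArg (fun g => mat C g 0 0) hdd1
    simp [hdd, mat_mul, mat_dEl, mat_one, dd, Matrix.mul_apply, Fin.sum_univ_three] at this
    exact hn (frobenius_inj F 2 (by simp only [frobenius_def, pow_two, this, mul_one]))
  · exact hwB (hle (by simpa using (hfix w 1).1 e))
  · rw [mul_smul, (hfix d 1).2 (by simpa using hd)]

theorem norm_one {h : G} (hh : h ∈ H) : mat C h 0 0 * C.σ (mat C h 0 0) = 1 := by
  by_contra hne
  obtain ⟨m, hm⟩ : ∃ m, m = mat C h 0 0 := ⟨_, rfl⟩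
  obtain ⟨n, hn⟩ : ∃ n, n = m * C.σ m := ⟨_, rfl⟩
  have hl : mat C (h ^ (q + 1)) 0 0 = n := by
    refine (map_pow (lam C) ⟨h, hle hh⟩ (q + 1)).trans ?_
    rw [hn, hm, C.hσ, ← pow_succ']
    rfl
  have hnσ : C.σ n = n := by rw [hn, map_mul, C.hinv, mul_comm]
  have hnq : n ^ (q ^ 3) = n := by
    have e : n ^ q = n := by rw [← C.hσ, hnσ]
    rw [pow_succ, pow_two, pow_mul, pow_mul, e, e, e]
  obtain ⟨h1, h2⟩ := pow_cube_mem C (hle (pow_mem hh (q + 1)))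
  obtain ⟨u, hu, he⟩ := conj_torus C (hle (pow_mem (pow_mem hh (q + 1)) (q ^ 3))) h1
  have hn0 : n ≠ 0 := hn ▸ mul_ne_zero (hm ▸ lam_ne_zero C ⟨h, hle hh⟩)
    ((map_ne_zero C.σ).2 (hm ▸ lam_ne_zero C ⟨h, hle hh⟩))
  have he : u * (h ^ (q + 1)) ^ q ^ 3 * u⁻¹ = dEl C n hn0 :=
    he.trans (dEl_congr C (h2.trans (by rw [hl, hnq])))
  refine no_split (hyp.comap u⁻¹ (inv_mem hu.1)) ?_ hn0 hnσ (by rw [hn, hm]; exact hne) ?_
  · intro x hx
    have := mul_mem (mul_mem hu.1 (hle hx)) (inv_mem hu.1)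
    simpa [mul_assoc] using this
  · rw [← he]
    show u⁻¹ * (u * (h ^ (q + 1)) ^ q ^ 3 * u⁻¹) * u⁻¹⁻¹ ∈ H
    simpa [mul_assoc] using pow_mem (pow_mem hh (q + 1)) (q ^ 3)

theorem row_eq (O : OFrame C) {h : G} (hh : h ∈ H) : ∃ α : F, α * C.σ α = 1 ∧
    O.xm h 0 0 + O.xm h 0 2 = α ∧ O.xm h 1 0 + O.xm h 1 2 = 0 ∧ O.xm h 2 0 + O.xm h 2 2 = α := by
  obtain ⟨h10, h20⟩ := (mem_borel C).1 (hle hh)
  have h21 := (uni_zero C (uni_mat C h) h10 h20).1
  refine ⟨mat C h 0 0, norm_one hyp hle hh, ?_, ?_, ?_⟩ <;>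
    simp [OFrame.xm, OFrame.T, OFrame.T', Matrix.mul_apply, Matrix.vecMul, dotProduct, Fin.sum_univ_three,
      h10, h20, h21] <;> grind [O.ht, O.hr, O.sigma_r]

theorem no_homology {l : F} (hl0 : l ≠ 0) (hσ : C.σ l = l⁻¹) (hl3 : l ^ 3 ≠ 1) (hd : dEl C l hl0 ∈ H) :
    False := by
  obtain ⟨O⟩ := exists_oframe C
  obtain ⟨p, hp⟩ := exists_cyc O
  obtain ⟨d, hdd⟩ : ∃ d, d = dEl C l hl0 := ⟨_, rfl⟩
  rw [← hdd] at hd
  obtain ⟨k, hk⟩ : ∃ k, k = l⁻¹ ^ 2 := ⟨_, rfl⟩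
  have hxd : O.xm d = !![l, 0, 0; 0, k, 0; 0, 0, l] := by
    rw [OFrame.xm, hdd, mat_dEl, dd_two hσ, hk]
    ext i j
    fin_cases i <;> fin_cases j <;>
      simp [OFrame.T, OFrame.T', Matrix.mul_apply, Matrix.vecMul, dotProduct, Fin.sum_univ_three] <;>
      grind [O.ht, O.hr, O.sigma_r]
  obtain ⟨D2, hD2⟩ : ∃ D2, D2 = p * d * p⁻¹ := ⟨_, rfl⟩
  obtain ⟨D0, hD0⟩ : ∃ D0, D0 = p * p * d * (p * p)⁻¹ := ⟨_, rfl⟩
  have x0 : O.xm D0 = !![k, 0, 0; 0, l, 0; 0, 0, l] := by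
    have e : O.xm d = O.xm ((p * p)⁻¹ * D0 * (p * p)) := by rw [hD0]; congr 1; group
    rw [cyc_conj_two O hp] at e
    ext i j
    fin_cases i <;> fin_cases j <;>
      simp [hxd, ← Matrix.ext_iff, Fin.forall_fin_succ] at e ⊢ <;> tauto
  have x2 : O.xm D2 = !![l, 0, 0; 0, l, 0; 0, 0, k] := by
    have e : O.xm d = O.xm (p⁻¹ * D2 * p) := by rw [hD2]; congr 1; group
    rw [cyc_conj O hp] at e
    ext i j
    fin_cases i <;> fin_cases j <;>
      simp [hxd, ← Matrix.ext_iff, Fin.forall_fin_succ] at e ⊢ <;> tauto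
  have hprod : D0 * (D2 * d) = 1 := by
    refine O.xm_inj ?_
    rw [O.xm_mul, O.xm_mul, x0, x2, hxd, O.xm_one, hk]
    ext i j
    fin_cases i <;> fin_cases j <;> simp [Matrix.mul_apply, Fin.sum_univ_three] <;> field_simp
  have hcomm : D0 * D2 = D2 * D0 := by
    refine O.xm_inj ?_
    rw [O.xm_mul, O.xm_mul, x0, x2]
    ext i j
    fin_cases i <;> fin_cases j <;> simp [Matrix.mul_apply, Fin.sum_univ_three, mul_comm]
  have hu : d = D2⁻¹ * D0⁻¹ := by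
    rw [← _root_.mul_inv_rev, eq_inv_iff_mul_eq_one]
    have : D0 * D2 * d = 1 := by rw [mul_assoc]; exact hprod
    exact mul_eq_one_comm.1 this
  obtain ⟨a, b, ⟨ha, ha'⟩, ⟨hb, hb'⟩, hab⟩ := crit_of_binary hyp.bin p (p * p) d D2⁻¹ D0⁻¹ hd
    (by rw [show p⁻¹ * D2⁻¹ * p = (p⁻¹ * D2 * p)⁻¹ by group, hD2]; refine inv_mem ?_; simpa [mul_assoc] using hd)
    (by rw [show (p * p)⁻¹ * D0⁻¹ * (p * p) = ((p * p)⁻¹ * D0 * (p * p))⁻¹ by simp [mul_assoc], hD0]; refine inv_mem ?_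
        simpa [mul_assoc] using hd) hu
  obtain ⟨α, hαn, a0, a1, a2⟩ := row_eq hyp hle O ha
  obtain ⟨α₂, -, a0', a1', a2'⟩ := row_eq hyp hle O ha'
  obtain ⟨β, hβn, b0, b1, b2⟩ := row_eq hyp hle O hb
  obtain ⟨β₃, -, b0', b1', b2'⟩ := row_eq hyp hle O hb'
  simp [cyc_conj O hp] at a0' a1' a2'
  rw [cyc_conj_two O hp] at b0' b1' b2'
  simp at b0' b1' b2'
  have h2 : (2 : F) = 0 := CharTwo.two_eq_zero
  have same : ∀ (X : M3), Xᵀ * X.map C.σ = 1 → ∀ x y : F, x * C.σ x = 1 →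
      ∀ u v : Fin 3 → F, (∑ i, u i * C.σ (v i) = 1) → (∀ i, (X *ᵥ u) i = x * u i) →
      (∀ i, (X *ᵥ v) i = y * v i) → x = y := by
    intro X hX x y hx u v huv hXu hXv
    have h00 : ∑ i, (X *ᵥ u) i * C.σ ((X *ᵥ v) i) = 1 := by
      have e := fun i j => congrFun (congrFun hX i) j
      simp [Matrix.mulVec, dotProduct, Fin.sum_univ_three, Matrix.mul_apply] at e huv ⊢
      have e00 := e 0 0; have e01 := e 0 1; have e02 := e 0 2
      have e10 := e 1 0; have e11 := e 1 1; have e12 := e 1 2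
      have e20 := e 2 0; have e21 := e 2 1; have e22 := e 2 2
      simp at e00 e01 e02 e10 e11 e12 e20 e21 e22
      linear_combination (u 0 * C.σ (v 0)) * e00 + (u 0 * C.σ (v 1)) * e01 + (u 0 * C.σ (v 2)) * e02 +
        (u 1 * C.σ (v 0)) * e10 + (u 1 * C.σ (v 1)) * e11 + (u 1 * C.σ (v 2)) * e12 +
        (u 2 * C.σ (v 0)) * e20 + (u 2 * C.σ (v 1)) * e21 + (u 2 * C.σ (v 2)) * e22 + huv
    simp only [hXu, hXv, map_mul] at h00
    rw [Finset.sum_congr rfl fun i _ => show x * u i * (C.σ y * C.σ (v i)) = x * C.σ y * (u i * C.σ (v i)) by ring,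
      ← Finset.mul_sum, huv, mul_one] at h00
    have : C.σ y = C.σ x := mul_left_cancel₀ (left_ne_zero_of_mul_eq_one hx) (h00.trans hx.symm)
    exact (C.σ.injective this).symm
  obtain rfl : α = α₂ := same _ (O.xm_unitary a) α α₂ hαn ![1, 0, 1] ![1, 1, 0]
    (by simp [Fin.sum_univ_three])
    (fun i => by fin_cases i <;> simp [Matrix.mulVec, dotProduct, Fin.sum_univ_three, a0, a1, a2])
    (fun i => by fin_cases i <;> simp [Matrix.mulVec, dotProduct, Fin.sum_univ_three] <;>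
      first | linear_combination a0' | linear_combination a1' | linear_combination a2')
  obtain rfl : β = β₃ := same _ (O.xm_unitary b) β β₃ hβn ![1, 0, 1] ![0, 1, 1]
    (by simp [Fin.sum_univ_three])
    (fun i => by fin_cases i <;> simp [Matrix.mulVec, dotProduct, Fin.sum_univ_three, b0, b1, b2])
    (fun i => by fin_cases i <;> simp [Matrix.mulVec, dotProduct, Fin.sum_univ_three] <;>
      first | linear_combination b0' | linear_combination b1' | linear_combination b2')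
  have e00 := congrArg (fun g => O.xm g 0 0) hab
  have e02 := congrArg (fun g => O.xm g 0 2) hab
  have e11 := congrArg (fun g => O.xm g 1 1) hab
  have e12 := congrArg (fun g => O.xm g 1 2) hab
  simp [O.xm_mul, hxd, Matrix.mul_apply, Fin.sum_univ_three] at e00 e02 e11 e12
  have hk' : k = α * β := by
    linear_combination e11 + e12 + O.xm a 1 0 * b1' + O.xm a 1 1 * b2' + O.xm a 1 2 * b0' + β * a0' + β * a1
      - β * O.xm a 1 0 * h2
  have hl' : l = α * β := by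
    linear_combination e00 + e02 + O.xm a 0 0 * b0 + O.xm a 0 1 * b1 + O.xm a 0 2 * b2 + β * a0
  have hlk : k = l := hk'.trans hl'.symm
  rw [hk, inv_pow, inv_eq_iff_eq_inv, ← mul_eq_one_iff_eq_inv₀ hl0] at hlk
  exact hl3 (by linear_combination hlk)

theorem cube_one {h : G} (hh : h ∈ H) : mat C h 0 0 ^ 3 = 1 := by
  by_contra hne
  obtain ⟨m, hm⟩ : ∃ m, m = mat C h 0 0 := ⟨_, rfl⟩
  have hn := norm_one hyp hle hh
  rw [← hm] at hne hn
  have hm0 : m ≠ 0 := left_ne_zero_of_mul_eq_one hn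
  have hσm : C.σ m = m⁻¹ := eq_inv_of_mul_eq_one_right hn
  have hmq : m ^ (q ^ 3) = m⁻¹ := by
    have e : m ^ q = m⁻¹ := by rw [← C.hσ, hσm]
    rw [pow_succ, pow_two, pow_mul, pow_mul, e, inv_pow, e, inv_inv, e]
  obtain ⟨h1, h2⟩ := pow_cube_mem C (hle hh)
  obtain ⟨u, hu, he⟩ := conj_torus C (hle (pow_mem hh (q ^ 3))) h1
  have he : u * h ^ q ^ 3 * u⁻¹ = dEl C m⁻¹ (inv_ne_zero hm0) :=
    he.trans (dEl_congr C (h2.trans (by rw [← hm, hmq])))
  refine no_homology (hyp.comap u⁻¹ (inv_mem hu.1)) ?_ (inv_ne_zero hm0) (by rw [map_inv₀, hσm])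
    (by rw [inv_pow, inv_ne_one]; exact hne) ?_
  · intro x hx
    have := mul_mem (mul_mem hu.1 (hle hx)) (inv_mem hu.1)
    simpa [mul_assoc] using this
  · rw [← he]
    show u⁻¹ * (u * h ^ q ^ 3 * u⁻¹) * u⁻¹⁻¹ ∈ H
    simpa [mul_assoc] using pow_mem hh (q ^ 3)

/-- The unipotent and central parts. -/
theorem rad_mul_center {h : G} (hh : h ∈ H) : ∃ r ∈ rad C, ∃ c ∈ Subgroup.center G, h = r * c := by
  have hn := norm_one hyp hle hh
  have h3 := cube_one hyp hle hh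
  have hm0 : mat C h 0 0 ≠ 0 := left_ne_zero_of_mul_eq_one hn
  have key : dEl C (mat C h 0 0) hm0 ∈ Subgroup.center ↥(Cfsg.SU 3 F q) := by
    rw [Subgroup.mem_center_iff]
    intro g
    obtain ⟨m, hm⟩ : ∃ m, m = mat C h 0 0 := ⟨_, rfl⟩
    have hd : dd C.σ (mat C h 0 0) = mat C h 0 0 • (1 : M3) := by
      rw [dd_two (eq_inv_of_mul_eq_one_right hn), ← hm]
      rw [← hm] at h3 hm0
      ext i j
      fin_cases i <;> fin_cases j <;> simp
      field_simp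
      linear_combination -h3
    exact mat_inj C (by rw [mat_mul, mat_mul, mat_dEl, hd, Matrix.smul_mul, Matrix.mul_smul, Matrix.one_mul,
      Matrix.mul_one])
  exact ⟨_, borel_decomp C (hle hh), _, key, (inv_mul_cancel_right _ _).symm⟩

theorem rad_inf_le {x : G} (hx : x ∈ H) (hr : x ∈ rad C) : x ∈ rootZ C := by
  obtain ⟨a, b, hab, rfl⟩ := rad_form C hr
  by_cases ha : a = 0
  · subst ha; exact uEl_mem_rootZ C hab
  exfalso
  have hσa : C.σ a ≠ 0 := (map_ne_zero C.σ).2 ha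
  have h2 : (2 : F) = 0 := CharTwo.two_eq_zero
  obtain ⟨c, hc⟩ : ∃ c, c = C.σ b / C.σ a := ⟨_, rfl⟩
  obtain ⟨N, hN⟩ : ∃ N, N = c * C.σ c := ⟨_, rfl⟩
  have hb : b ≠ 0 := by
    intro e
    rw [e, map_zero, zero_add, zero_add] at hab
    exact mul_ne_zero ha hσa hab
  have hc0 : c ≠ 0 := by rw [hc]; exact div_ne_zero ((map_ne_zero C.σ).2 hb) hσa
  have hN0 : N ≠ 0 := by rw [hN]; exact mul_ne_zero hc0 ((map_ne_zero C.σ).2 hc0)
  have hNσ : C.σ N = N := by rw [hN, map_mul, C.hinv, mul_comm]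
  obtain ⟨τ, hτ, hτ3⟩ := exists_norm_one_cube hyp.q4 C
  have hτ0 : τ ≠ 0 := left_ne_zero_of_mul_eq_one hτ
  have hστ : C.σ τ = τ⁻¹ := eq_inv_of_mul_eq_one_right hτ
  obtain ⟨s, hs⟩ : ∃ s, s = τ⁻¹ ^ 3 + τ ^ 3 := ⟨_, rfl⟩
  have hs0 : s ≠ 0 := by
    intro e
    rw [hs, inv_pow, CharTwo.add_eq_zero, inv_eq_iff_eq_inv, ← mul_eq_one_iff_eq_inv₀ (pow_ne_zero _ hτ0)] at e
    exact hτ3 (frobenius_inj F 2 (by simp only [frobenius_def, pow_two, e, mul_one]))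
  have hsσ : C.σ s = s := by rw [hs, map_add, map_pow, map_pow, map_inv₀, hστ, inv_inv, add_comm]
  obtain ⟨κ, hκ⟩ : ∃ κ, κ = s / N * τ := ⟨_, rfl⟩
  have hκ0 : κ ≠ 0 := by rw [hκ]; exact mul_ne_zero (div_ne_zero hs0 hN0) hτ0
  have hσκ : C.σ κ = s / N * τ⁻¹ := by rw [hκ, map_mul, map_div₀, hsσ, hNσ, hστ]
  obtain ⟨e, he⟩ : ∃ e, e = C.σ κ / κ ^ 2 := ⟨_, rfl⟩
  have hec : e + C.σ e + c * C.σ c = 0 := by
    rw [← hN, he, map_div₀, map_pow, C.hinv, hσκ, hκ]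
    field_simp
    rw [hs]
    field_simp
    linear_combination N * (τ ^ 6 + 1) * h2
  have hl0 : (C.σ κ)⁻¹ ≠ 0 := inv_ne_zero ((map_ne_zero C.σ).2 hκ0)
  obtain ⟨g, hg⟩ : ∃ g, g = dEl C _ hl0 * wEl C * uEl C c e hec := ⟨_, rfl⟩
  have hmg : mat C g = !![0, 0, (C.σ κ)⁻¹; 0, -(C.σ κ / κ), -(C.σ κ / κ * c); κ, -(κ * C.σ c), κ * e] := by
    rw [hg, mat_mul, mat_mul, mat_dEl, mat_wEl, mat_uEl]
    ext i j
    fin_cases i <;> fin_cases j <;>
      simp [dd, ww, uu, Matrix.mul_apply, Fin.sum_univ_three, map_inv₀, C.hinv] <;> field_simp <;> simp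
  obtain ⟨x, hx'⟩ : ∃ x, x = uEl C a b hab := ⟨_, rfl⟩
  rw [← hx'] at hx hr
  have hmx : mat C x = uu C.σ a b := hx' ▸ mat_uEl C hab
  have hg3 : g ^ 3 = 1 := cube_of_trace C (by
    rw [hmg, he]
    simp [Matrix.trace, Fin.sum_univ_three]
    field_simp
    ring)
  have hxg3 : (x * g) ^ 3 = 1 := cube_of_trace C (by
    rw [mat_mul, hmx, hmg, he]
    simp [Matrix.trace, uu, Fin.sum_univ_three, Matrix.mul_apply, hc, map_div₀, C.hinv]
    field_simp
    linear_combination (κ ^ 2 * b * a) * h2 * 0)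
  have hgB : g ∉ borel C := fun h => hκ0 (by simpa [hmg] using h.2)
  have hprod : x * (g * x * g⁻¹) * (g * g * x * (g * g)⁻¹) = 1 := by
    have e : (g * g * g : G) = 1 := by rw [← pow_three', hg3]
    calc x * (g * x * g⁻¹) * (g * g * x * (g * g)⁻¹) = (x * g) ^ 3 * (g * g * g)⁻¹ := by
          rw [pow_three']; group
      _ = 1 := by rw [hxg3, e, inv_one, one_mul]
  have hu : x = (g * g * x * (g * g)⁻¹)⁻¹ * (g * x * g⁻¹)⁻¹ := by
    rw [← _root_.mul_inv_rev, eq_inv_iff_mul_eq_one, ← mul_assoc]; exact hprod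
  obtain ⟨y, z, ⟨hy, hy'⟩, ⟨hz, hz'⟩, hyz⟩ := crit_of_binary hyp.bin (g * g) g x (g * g * x * (g * g)⁻¹)⁻¹
    (g * x * g⁻¹)⁻¹ hx
    (by rw [show (g * g)⁻¹ * (g * g * x * (g * g)⁻¹)⁻¹ * (g * g) = x⁻¹ by group]; exact inv_mem hx)
    (by rw [show g⁻¹ * (g * x * g⁻¹)⁻¹ * g = x⁻¹ by group]; exact inv_mem hx) hu
  have hcent : ∀ k : G, k ∉ borel C → ∀ w ∈ H, k⁻¹ * w * k ∈ H → w ∈ Subgroup.center G := by
    intro k hk w hw hw'
    obtain ⟨r, hr, c₀, hc₀, rfl⟩ := rad_mul_center hyp hle hw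
    obtain ⟨r', hr', c₁, hc₁, e⟩ := rad_mul_center hyp hle hw'
    have e' : k⁻¹ * r * k = r' * (c₁ * c₀⁻¹) := by
      rw [← mul_assoc, ← e, show k⁻¹ * (r * c₀) * k * c₀⁻¹ = k⁻¹ * r * (c₀ * k * c₀⁻¹) by group,
        ← Subgroup.mem_center_iff.1 hc₀ k, mul_inv_cancel_right]
    obtain ⟨cc, hcc, hccd⟩ : ∃ cc ∈ Subgroup.center G, cc = c₁ * c₀⁻¹ := ⟨_, mul_mem hc₁ (inv_mem hc₀), rfl⟩
    rw [← hccd] at e'
    have hpow : ∀ r ∈ rad C, r ^ (q ^ 3) = 1 := fun r hr => by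
      have h1 : (⟨r, hr⟩ : rad C) ^ Nat.card (rad C) = 1 := pow_card_eq_one'
      rw [card_rad C] at h1
      exact congrArg Subtype.val h1
    have hcc1 : cc ^ (q ^ 3) = 1 := by
      have := congrArg (fun x => x ^ (q ^ 3)) e'
      beta_reduce at this
      rw [show k⁻¹ * r * k = k⁻¹ * r * k⁻¹⁻¹ by group, conj_pow, hpow r hr, mul_one, mul_inv_cancel,
        (show Commute r' cc from Subgroup.mem_center_iff.1 hcc r').mul_pow, hpow r' hr', one_mul] at this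
      exact this.symm
    obtain ⟨s, hs⟩ := SU3Root.scalar_of_mem_center C.hne C.hinv C.hσ C.hq hcc
    have es : mat C cc = s • (1 : M3) := by
      rw [mat, hs, Matrix.mul_assoc, ← Matrix.scalar_apply, (Matrix.scalar_commute s (Commute.all s) _).eq,
        ← Matrix.mul_assoc, C.fr.hQP, Matrix.one_mul]
      ext i j; fin_cases i <;> fin_cases j <;> simp
    have hs3 : s ^ 3 = 1 := by
      have := (uni_mat C cc).2
      rw [es, det_smul, det_one, mul_one] at this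
      simpa using this
    have hcc3 : cc ^ 3 = 1 := mat_inj C (by
      rw [pow_three', mat_mul, mat_mul, es, mat_one]
      simp [smul_smul, show s * (s * s) = 1 by rw [← pow_three, hs3], show s * s * s = 1 by rw [← pow_three', hs3]])
    have hcc_1 : cc = 1 := by
      obtain ⟨p, m, hp, hm, hqp, hchar⟩ := exists_prime_pow C
      obtain rfl : p = 2 := CharP.eq F hchar ‹CharP F 2›
      refine orderOf_eq_one_iff.1 (Nat.eq_one_of_dvd_coprimes ?_ (orderOf_dvd_of_pow_eq_one hcc3)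
        (orderOf_dvd_of_pow_eq_one hcc1))
      rw [hqp, ← pow_mul]
      exact Nat.Coprime.pow_right _ (by norm_num)
    rw [hcc_1, mul_one] at e'
    have hr1 : r = 1 := rad_eq_one C hr (x := k • base C) (fun h => hk ((smul_base_eq_iff C).1 h)) (by
      rw [← mul_smul, smul_base_eq_smul, show (r * k)⁻¹ * k = (k⁻¹ * r * k)⁻¹ by group, e']
      exact inv_mem hr'.1)
    rw [hr1, one_mul]
    exact hc₀
  have hg2B : g * g ∉ borel C := fun h => hgB (by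
    have e : g = (g * g)⁻¹ := by rw [eq_inv_iff_mul_eq_one, ← mul_assoc, ← pow_three', hg3]
    rw [e]; exact inv_mem h)
  have hxc : x ∈ Subgroup.center G := by
    rw [hyz]
    exact mul_mem (hcent _ hg2B y hy hy') (hcent _ hgB z hz hz')
  have hs := congrArg (fun x => mat C x 2 1) ((Subgroup.mem_center_iff.1 hxc) (wEl C))
  simp [mat_mul, hmx, mat_wEl, uu, ww, Matrix.mul_apply, Fin.sum_univ_three] at hs
  exact ha hs

end

/-- A binary point stabiliser holding a root group. -/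
theorem eq_root_center {H : Subgroup G} (hyp : Hyp C H) (g : G) :
    g ∈ H ↔ ∃ z ∈ rootZ C, ∃ c ∈ Subgroup.center G, g = z * c := by
  have hle : H ≤ borel C := by
    intro h hh
    by_contra hB
    obtain ⟨a, b, hab, hβ⟩ := bruhat C hB
    obtain ⟨β, hβd⟩ : ∃ β, β = (uEl C a b hab * wEl C)⁻¹ * h := ⟨_, rfl⟩
    rw [← hβd] at hβ
    obtain ⟨u, hu⟩ : ∃ u, u = uEl C a b hab := ⟨_, rfl⟩
    have huB : u ∈ borel C := hu ▸ uEl_mem C hab
    refine false_of_two_roots (hyp.comap u huB) fun z hz => ?_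
    show u * (wEl C * z * wEl C) * u⁻¹ ∈ H
    have e : u * (wEl C * z * wEl C) * u⁻¹ = h * (β⁻¹ * z * β⁻¹⁻¹) * h⁻¹ := by
      have hw : (wEl C)⁻¹ = wEl C := inv_eq_of_mul_eq_one_right (wEl_sq C)
      rw [hβd, ← hu]
      conv_lhs => arg 1; arg 2; arg 2; rw [← hw]
      group
    rw [e]
    exact mul_mem (mul_mem hh (hyp.root (conj_rootZ C (inv_mem hβ) hz))) (inv_mem hh)
  constructor
  · intro hg
    obtain ⟨r, hr, c, hc, rfl⟩ := rad_mul_center hyp hle hg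
    exact ⟨r, rad_inf_le hyp hle ((Subgroup.mul_mem_cancel_right H (hyp.cen hc)).1 hg) hr, c, hc, rfl⟩
  · rintro ⟨z, hz, c, hc, rfl⟩
    exact mul_mem (hyp.root hz) (hyp.cen hc)

end Cfsg.Agent.BinInvol
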