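import Cfsg.Agent.Lib.BinInvol.UnitaryBorel
import Cfsg.Agent.S5737
import Cfsg.Agent.S1141

/-!
The binary actions of `PSU₃(2^n)` with point stabilisers of even order.
-/

set_option autoImplicit false
set_option linter.unusedSectionVars false

namespace Cfsg.Agent.BinInvol

open Matrix Hermitian PSU3Index
open Cfsg.Agent.SU3Root (uu)
open Cfsg.Agent.SzBinary (BinaryOn)
open Cfsg.Agent.GoldStruct (prj radP)

universe u

variable {F : Type u} [Field F] [Fintype F] [CharP F 2] {q : ℕ} (C : Ctx F q)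

set_option quotPrecheck false in
local notation "G" => ↥(Cfsg.SU 3 F q)

theorem prj_surj : Function.Surjective (prj (F := F) (q := q)) := QuotientGroup.mk'_surjective _

theorem prj_eq_one {x : ↥(Cfsg.SU 3 F q)} : prj x = 1 ↔ x ∈ Subgroup.center ↥(Cfsg.SU 3 F q) :=
  QuotientGroup.eq_one_iff x

include C in
theorem center_odd {c : G} (hc : c ∈ Subgroup.center G) : c ^ 3 = 1 := by
  obtain ⟨s, hs⟩ := SU3Root.scalar_of_mem_center C.hne C.hinv C.hσ C.hq hc
  have hd := (c : Matrix.SpecialLinearGroup (Fin 3) F).2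
  rw [hs] at hd
  simp [Matrix.det_diagonal] at hd
  refine Subtype.ext (Subtype.ext ?_)
  rw [SubmonoidClass.coe_pow, Matrix.SpecialLinearGroup.coe_pow, hs, Matrix.diagonal_pow]
  ext i j
  fin_cases i <;> fin_cases j <;> simp [hd, Matrix.diagonal]

include C in
theorem center_sq {c : G} (hc : c ∈ Subgroup.center G) (h : c * c = 1) : c = 1 := by
  have h3 := center_odd C hc
  rwa [pow_three', h, one_mul] at h3

include C in
theorem lift_sq {s : Cfsg.PSU 3 F q} (hs : s * s = 1) : ∃ x : G, prj x = s ∧ x * x = 1 := by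
  obtain ⟨y, rfl⟩ := prj_surj s
  rw [← map_mul, prj_eq_one] at hs
  refine ⟨y ^ 3, ?_, ?_⟩
  · have h := prj_eq_one.2 hs
    rw [map_mul] at h
    rw [map_pow, pow_three', h, one_mul]
  · rw [← center_odd C hs, ← pow_add, ← pow_two, ← pow_mul]

include C in
theorem commute_lift {x y : G} (hy : y * y = 1) (h : prj x * prj y = prj y * prj x) : x * y = y * x := by
  rw [← map_mul, ← map_mul] at h
  obtain ⟨c, hc, hxy⟩ : ∃ c ∈ Subgroup.center G, x * y = y * x * c :=
    ⟨(y * x)⁻¹ * (x * y), QuotientGroup.eq.1 h.symm, (mul_inv_cancel_left _ _).symm⟩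
  have h2 : x = x * (c * c) := by
    calc x = x * y * y := by rw [mul_assoc, hy, mul_one]
      _ = y * x * c * y := by rw [hxy]
      _ = y * x * y * c := by rw [mul_assoc (y * x), ← Subgroup.mem_center_iff.1 hc y, ← mul_assoc]
      _ = y * (y * x * c) * c := by rw [← hxy, mul_assoc y x y]
      _ = y * y * (x * (c * c)) := by group
      _ = x * (c * c) := by rw [hy, one_mul]
  rw [hxy, center_sq C hc (mul_eq_left.1 h2.symm), mul_one]

/-- The root group in `PSU₃`. -/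
def rootP : Subgroup (Cfsg.PSU 3 F q) := (rootZ C).map prj

theorem mem_rootP {s : Cfsg.PSU 3 F q} (hs : s ∈ rootP C) : s * s = 1 := by
  obtain ⟨z, hz, rfl⟩ := hs
  rw [← map_mul, rootZ_sq C hz, map_one]

theorem rootP_cent {s : Cfsg.PSU 3 F q} (hs : s ∈ rootP C) (hs1 : s ≠ 1) {v : Cfsg.PSU 3 F q} (hv : v * v = 1)
    (hc : s * v = v * s) : v ∈ rootP C := by
  obtain ⟨z, hz, rfl⟩ := hs
  obtain ⟨x, rfl, hx⟩ := lift_sq C hv
  have hzx := commute_lift C (x := z) hx hc
  refine ⟨x, invol_mem C (fix_base C hz (fun e => hs1 (by rw [e, map_one])) ?_) hx, rfl⟩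
  rw [mul_assoc, hzx, inv_mul_cancel_left]
  exact rootZ_le_borel C hz

theorem rootP_ti {g : Cfsg.PSU 3 F q} {v : Cfsg.PSU 3 F q} (hv : v ∈ rootP C) (hv1 : v ≠ 1)
    (hg : g * v * g⁻¹ ∈ rootP C) (w : Cfsg.PSU 3 F q) : g * w * g⁻¹ ∈ rootP C ↔ w ∈ rootP C := by
  obtain ⟨g, rfl⟩ := prj_surj g
  obtain ⟨z, hz, rfl⟩ := hv
  rw [← map_inv, ← map_mul, ← map_mul] at hg
  obtain ⟨z', hz', hzz⟩ := hg
  obtain ⟨c, hc, he⟩ : ∃ c ∈ Subgroup.center G, g * z * g⁻¹ = z' * c :=
    ⟨z'⁻¹ * (g * z * g⁻¹), QuotientGroup.eq.1 hzz, (mul_inv_cancel_left _ _).symm⟩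
  have hgz : (g⁻¹)⁻¹ * z * g⁻¹ ∈ borel C := by
    rw [inv_inv, he]
    exact mul_mem (rootZ_le_borel C hz') (center_le_borel C hc)
  have hgB : g ∈ borel C := (inv_mem_iff (x := g)).1 (fix_base C hz (fun e => hv1 (by rw [e, map_one])) hgz)
  have key : ∀ g ∈ borel C, ∀ w ∈ rootP C, prj g * w * (prj g)⁻¹ ∈ rootP C := by
    rintro g hg _ ⟨y, hy, rfl⟩
    exact ⟨_, conj_rootZ C hg hy, by simp⟩
  refine ⟨fun h => ?_, key g hgB w⟩
  have := key g⁻¹ (inv_mem hgB) _ h
  rw [map_inv] at this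
  simpa [mul_assoc] using this

theorem binary_rootP : BinaryOn (rootP C) :=
  binary_of_ti (fun _ h => mem_rootP C h) (fun _ hu hu1 _ hv hc => rootP_cent C hu hu1 hv hc)
    fun _ _ hv hv1 hg w => rootP_ti C hv hv1 hg w

theorem rootP_le : rootP C ≤ radP C := Subgroup.map_mono fun _ h => h.1

theorem radP_center : radP C ⊓ Subgroup.centralizer (radP C : Set (Cfsg.PSU 3 F q)) = rootP C := by
  refine le_antisymm ?_ ?_
  · rintro x ⟨hx, hxc⟩
    obtain ⟨a, b, h, rfl⟩ := GoldStruct.mem_radP C hx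
    have key : ∀ a' : F, C.σ a' * a = C.σ a * a' := fun a' => by
      obtain ⟨b', hb'⟩ := exists_trace C.hne C.hinv (x := -(a' * C.σ a')) (by rw [map_neg, map_mul, C.hinv, mul_comm])
      have h' : b' + C.σ b' + a' * C.σ a' = 0 := by linear_combination hb'
      have e := hxc _ (GoldStruct.el_mem_radP C h')
      obtain ⟨k1, e1⟩ := GoldStruct.uEl_prod C h h'
      obtain ⟨k2, e2⟩ := GoldStruct.uEl_prod C h' h
      rw [← map_mul, ← map_mul, e1, e2] at e
      have := (GoldStruct.prj_uEl_inj C k2 k1 e).2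
      linear_combination -this
    have h1 : a = C.σ a := by simpa using key 1
    obtain ⟨τ, hτ⟩ : ∃ τ, C.σ τ ≠ τ := by
      by_contra hall
      push Not at hall
      exact C.hne (RingHom.ext hall)
    have ha : a = 0 := by
      have h2 := key τ
      rw [← h1] at h2
      have : (C.σ τ - τ) * a = 0 := by linear_combination h2
      exact (mul_eq_zero.1 this).resolve_left (sub_ne_zero.2 hτ)
    subst ha
    exact ⟨_, uEl_mem_rootZ C h, rfl⟩
  · rintro _ ⟨z, hz, rfl⟩
    refine ⟨⟨z, hz.1, rfl⟩, ?_⟩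
    rintro _ ⟨y, hy, rfl⟩
    rw [← map_mul, ← map_mul]
    obtain ⟨b, h, rfl⟩ := rootZ_form C hz
    obtain ⟨a', b', h', rfl⟩ := rad_form C hy
    exact congrArg prj (mat_inj C (by rw [mat_mul, mat_mul, mat_uEl, mat_uEl, uu_mul, uu_mul]; simp [add_comm b]))

include C in
theorem exists_sylow {n : ℕ} (hn : 2 ≤ n) (hq : q = 2 ^ n) :
    ∃ P : Sylow 2 (Cfsg.PSU 3 F q), (P : Subgroup _) = radP C := by
  haveI : Fact (Nat.Prime 2) := ⟨Nat.prime_two⟩
  have hF : Fintype.card F = (2 ^ n) ^ 2 := by rw [← Nat.card_eq_fintype_card, card_F C, hq]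
  have hinj : Function.Injective (prj.subgroupMap (rad C)) := by
    rintro ⟨x, hx⟩ ⟨y, hy⟩ e
    obtain ⟨a, b, h, rfl⟩ := rad_form C hx
    obtain ⟨a', b', h', rfl⟩ := rad_form C hy
    obtain ⟨ea, eb⟩ := GoldStruct.prj_uEl_inj C h h' (congrArg Subtype.val e)
    exact Subtype.ext (GoldStruct.uEl_congr C h h' ea eb)
  have hc : Nat.card (radP C) = q ^ 3 := by
    rw [← card_rad C]
    exact (Nat.card_congr (Equiv.ofBijective _ ⟨hinj, MonoidHom.subgroupMap_surjective _ _⟩)).symm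
  have hp : IsPGroup 2 (radP C) := IsPGroup.of_card (n := n * 3) (by rw [hc, hq, ← pow_mul])
  obtain ⟨P, hP⟩ := hp.exists_le_sylow
  refine ⟨P, (Subgroup.eq_of_le_of_card_ge hP ?_).symm⟩
  subst hq
  exact ((Cfsg.Agent.S1141.result hn hF P).1.trans hc.symm).le

include C in
theorem center_sylow_eq {n : ℕ} (hn : 2 ≤ n) (hq : q = 2 ^ n) :
    ∀ P : Sylow 2 (Cfsg.PSU 3 F q), ∃ x : Cfsg.PSU 3 F q,
      (Subgroup.center (P : Subgroup (Cfsg.PSU 3 F q))).map (P : Subgroup (Cfsg.PSU 3 F q)).subtype =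
        (rootP C).map (MulAut.conj x).toMonoidHom := by
  haveI : Fact (Nat.Prime 2) := ⟨Nat.prime_two⟩
  intro P
  obtain ⟨P0, hP0⟩ := exists_sylow C hn hq
  obtain ⟨x, hx⟩ := MulAction.exists_smul_eq (Cfsg.PSU 3 F q) P0 P
  subst hx
  refine ⟨x, ?_⟩
  have hP : ((x • P0 : Sylow 2 (Cfsg.PSU 3 F q)) : Subgroup _) = (radP C).map (MulAut.conj x).toMonoidHom := by
    rw [← hP0]; rfl
  rw [S5737.center_map_eq, hP, S5737.inf_centralizer_map, radP_center]

include C in
/-- The binary actions with stabilisers of even order. -/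
theorem psu_binary_iff {n : ℕ} (hn : 2 ≤ n) (hq : q = 2 ^ n) (hone : OneClass (Cfsg.PSU 3 F q))
    {K : Subgroup (Cfsg.PSU 3 F q)} (hK : K ≠ ⊤) (heven : Even (Nat.card K)) :
    BinaryOn K ↔ ∃ P : Sylow 2 (Cfsg.PSU 3 F q),
      K = (Subgroup.center (P : Subgroup (Cfsg.PSU 3 F q))).map (P : Subgroup (Cfsg.PSU 3 F q)).subtype := by
  haveI : Fact (Nat.Prime 2) := ⟨Nat.prime_two⟩
  constructor
  · intro hb
    obtain ⟨t, htK, ht⟩ := Invol.exists_invol heven
    obtain ⟨t0, rfl, ht0⟩ := lift_sq C (Invol.mul_self ht)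
    obtain ⟨x, hx⟩ := exists_conj_rootZ C ht0
    obtain ⟨H, hH⟩ : ∃ H, H = (K.comap prj).comap (MulAut.conj x).toMonoidHom := ⟨_, rfl⟩
    have hmem : ∀ g, g ∈ H ↔ prj (x * g * x⁻¹) ∈ K := fun g => by rw [hH]; rfl
    have hbin : BinaryOn H := hH ▸ binary_comap _ (MulAut.conj x).surjective (binary_comap _ prj_surj hb)
    have hone' : OneClass G := by
      intro s t hs ht
      have ho : ∀ s : G, orderOf s = 2 → orderOf (prj s) = 2 := fun s hs => by
        refine Invol.order_two_of_sq (by rw [← map_mul, Invol.mul_self hs, map_one]) fun e => ?_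
        exact Invol.ne_one hs (center_sq C (prj_eq_one.1 e) (Invol.mul_self hs))
      obtain ⟨g, hg⟩ := isConj_iff.1 (hone _ _ (ho s hs) (ho t ht))
      obtain ⟨g, rfl⟩ := prj_surj g
      rw [← map_inv, ← map_mul, ← map_mul] at hg
      obtain ⟨c, hc, he⟩ : ∃ c ∈ Subgroup.center G, t = g * s * g⁻¹ * c :=
        ⟨(g * s * g⁻¹)⁻¹ * t, QuotientGroup.eq.1 hg, (mul_inv_cancel_left _ _).symm⟩
      have h1 : g * s * g⁻¹ * c * (g * s * g⁻¹ * c) = c * c := by
        rw [mul_assoc (g * s * g⁻¹), ← mul_assoc c, ← Subgroup.mem_center_iff.1 hc (g * s * g⁻¹)]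
        calc g * s * g⁻¹ * (g * s * g⁻¹ * c * c) = g * (s * s) * g⁻¹ * (c * c) := by group
          _ = c * c := by rw [Invol.mul_self hs]; group
      rw [← he, Invol.mul_self ht] at h1
      rw [center_sq C hc h1.symm, mul_one] at he
      exact isConj_iff.2 ⟨g, he.symm⟩
    have hcen : Subgroup.center G ≤ H := fun c hc => (hmem c).2 (by
      rw [Subgroup.mem_center_iff.1 hc x, mul_inv_cancel_right, prj_eq_one.2 hc]
      exact one_mem _)
    have htop : H ≠ ⊤ := fun e => hK (top_le_iff.1 fun s _ => by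
      obtain ⟨g, rfl⟩ := prj_surj s
      have := (hmem (x⁻¹ * g * x)).1 (e ▸ Subgroup.mem_top _)
      rwa [show x * (x⁻¹ * g * x) * x⁻¹ = g by group] at this)
    have hroot : rootZ C ≤ H := by
      intro z hz
      by_cases hz1 : z = 1
      · exact hz1 ▸ one_mem _
      have hu : x⁻¹ * t0 * x ∈ H := (hmem _).2 (by
        rw [show x * (x⁻¹ * t0 * x) * x⁻¹ = t0 by group]; exact htK)
      refine mem_of_commute hbin hone' (Invol.order_two_of_sq (rootZ_sq C hx) fun e => ?_)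
        (Invol.order_two_of_sq (rootZ_sq C hz) hz1) (rootZ_comm C hx hz) hu
      exact Invol.ne_one ht (by
        rw [show t0 = x * (x⁻¹ * t0 * x) * x⁻¹ by group, e, mul_one, mul_inv_cancel, map_one])
    have hq4 : 4 ≤ q := hq ▸ le_trans (by norm_num) (Nat.pow_le_pow_right two_pos hn)
    have key := eq_root_center (C := C) ⟨hq4, hbin, hone', hcen, htop, hroot⟩
    obtain ⟨P0, hP0⟩ := exists_sylow C hn hq
    refine ⟨prj x • P0, ?_⟩
    have hP : ((prj x • P0 : Sylow 2 (Cfsg.PSU 3 F q)) : Subgroup _) =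
        (radP C).map (MulAut.conj (prj x)).toMonoidHom := by
      rw [← hP0]; rfl
    rw [S5737.center_map_eq, hP, S5737.inf_centralizer_map, radP_center]
    ext s
    rw [Subgroup.mem_map_equiv]
    constructor
    · intro hs
      obtain ⟨g, rfl⟩ := prj_surj s
      obtain ⟨z, hz, c, hc, he⟩ := (key (x⁻¹ * g * x)).1 ((hmem _).2 (by
        rwa [show x * (x⁻¹ * g * x) * x⁻¹ = g by group]))
      refine ⟨z, hz, ?_⟩
      have := congrArg prj he
      rw [map_mul prj z c, prj_eq_one.2 hc, mul_one] at this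
      simpa using this.symm
    · rintro ⟨z, hz, hzs⟩
      have := (hmem z).1 (hroot hz)
      rw [map_mul, map_mul, map_inv, hzs] at this
      simpa [mul_assoc] using this
  · rintro ⟨P, rfl⟩
    obtain ⟨x, hx⟩ := center_sylow_eq C hn hq P
    rw [hx]
    exact S5737.binaryOn_map _ (binary_rootP C)

end Cfsg.Agent.BinInvol
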