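import Cfsg.Agent.Lib.BinInvol.UnitaryBlock

/-!
`SU₃(q)`, `q` even: a binary point stabiliser with two root groups, in the orthonormal frame.
-/

set_option autoImplicit false
set_option linter.unusedSectionVars false
set_option linter.unusedSimpArgs false

namespace Cfsg.Agent.BinInvol

open Matrix Hermitian PSU3Index
open Cfsg.Agent.SU3Root (Uni uu dd ww)
open Cfsg.Agent.SzBinary (BinaryOn Crit crit_of_binary)

universe u

variable {F : Type u} [Field F] [Fintype F] [CharP F 2] {q : ℕ} {C : Ctx F q}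

local notation "M3" => Matrix (Fin 3) (Fin 3) F
set_option quotPrecheck false in
local notation "G" => ↥(Cfsg.SU 3 F q)

/-- The cyclic permutation matrix. -/
def cyc : M3 := !![0, 0, 1; 1, 0, 0; 0, 1, 0]

theorem exists_cyc (O : OFrame C) : ∃ p : G, O.xm p = cyc := by
  refine O.exists_el _ ?_ (by simp [cyc, det_fin_three])
  ext i j
  fin_cases i <;> fin_cases j <;> simp [cyc, Matrix.mul_apply, Fin.sum_univ_three]

theorem cyc_conj (O : OFrame C) {p : G} (hp : O.xm p = cyc) (g : G) :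
    O.xm (p⁻¹ * g * p) = !![O.xm g 1 1, O.xm g 1 2, O.xm g 1 0; O.xm g 2 1, O.xm g 2 2, O.xm g 2 0;
      O.xm g 0 1, O.xm g 0 2, O.xm g 0 0] := by
  have hi : O.xm p⁻¹ = !![0, 1, 0; 0, 0, 1; 1, 0, 0] := by
    have h : O.xm p⁻¹ * O.xm p = 1 := by rw [← O.xm_mul, inv_mul_cancel, O.xm_one]
    have hc : (cyc : M3) * !![0, 1, 0; 0, 0, 1; 1, 0, 0] = 1 := by
      ext i j
      fin_cases i <;> fin_cases j <;> simp [cyc, Matrix.mul_apply, Fin.sum_univ_three]
    calc O.xm p⁻¹ = O.xm p⁻¹ * ((cyc : M3) * !![0, 1, 0; 0, 0, 1; 1, 0, 0]) := by rw [hc, Matrix.mul_one]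
      _ = _ := by rw [← hp, ← Matrix.mul_assoc, h, Matrix.one_mul]
  rw [O.xm_mul, O.xm_mul, hp, hi]
  ext i j
  fin_cases i <;> fin_cases j <;> simp [cyc, Matrix.mul_apply, Matrix.vecMul, dotProduct, Fin.sum_univ_three]

theorem cyc_conj_two (O : OFrame C) {p : G} (hp : O.xm p = cyc) (g : G) :
    O.xm ((p * p)⁻¹ * g * (p * p)) = !![O.xm g 2 2, O.xm g 2 0, O.xm g 2 1; O.xm g 0 2, O.xm g 0 0, O.xm g 0 1;
      O.xm g 1 2, O.xm g 1 0, O.xm g 1 1] := by
  rw [show (p * p)⁻¹ * g * (p * p) = p⁻¹ * (p⁻¹ * g * p) * p by group, cyc_conj O hp, cyc_conj O hp]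
  ext i j
  fin_cases i <;> fin_cases j <;> simp

theorem exists_diag (O : OFrame C) {a b c : F} (ha : a * C.σ a = 1) (hb : b * C.σ b = 1) (hc : c * C.σ c = 1)
    (hd : a * b * c = 1) : ∃ g : G, O.xm g = !![a, 0, 0; 0, b, 0; 0, 0, c] := by
  refine O.exists_el _ ?_ (by simp [det_fin_three]; linear_combination hd)
  ext i j
  fin_cases i <;> fin_cases j <;> simp [Matrix.mul_apply, Fin.sum_univ_three, ha, hb, hc]

theorem exists_norm_one_cube (h4 : 4 ≤ q) (C : Ctx F q) : ∃ l : F, l * C.σ l = 1 ∧ l ^ 3 ≠ 1 := by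
  classical
  by_contra hall
  simp only [not_exists, not_and, not_not] at hall
  have hcard := card_norm_one C
  have hle : Nat.card {a : F // a * C.σ a = 1} ≤ 3 := by
    rw [Nat.card_eq_fintype_card, Fintype.card_subtype]
    refine le_trans (b := (Polynomial.X ^ 3 - Polynomial.C (1 : F)).roots.toFinset.card) ?_
      ((Multiset.toFinset_card_le _).trans
        ((Polynomial.card_roots' _).trans (le_of_eq Polynomial.natDegree_X_pow_sub_C)))
    refine Finset.card_le_card fun x hx => ?_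
    rw [Multiset.mem_toFinset, Polynomial.mem_roots (Polynomial.X_pow_sub_C_ne_zero (by norm_num) _)]
    simp [hall x (Finset.mem_filter.1 hx).2]
  omega

variable {H : Subgroup ↥(Cfsg.SU 3 F q)} (hyp : Hyp C H) (hW : ∀ z ∈ rootZ C, wEl C * z * wEl C ∈ H)
include hyp hW

theorem xblk {h : G} (O : OFrame C) (hh : h ∈ H) : Blk (O.xm h) := (blk_xm O).2 (blk_of_hyp hyp hW hh)

/-- Every norm one scalar occurs on the middle line. -/
theorem exists_mid (O : OFrame C) {μ : F} (hμ : μ * C.σ μ = 1) : ∃ h ∈ H, mat C h 1 1 = μ := by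
  obtain ⟨p, hp⟩ := exists_cyc O
  obtain ⟨ν, hν⟩ : ∃ ν, ν = C.σ μ := ⟨_, rfl⟩
  have hμν : μ * ν = 1 := hν ▸ hμ
  have hνn : ν * C.σ ν = 1 := by rw [hν, C.hinv, mul_comm]; exact hμ
  have h1 : (1 : F) * C.σ 1 = 1 := by simp
  obtain ⟨u, hu⟩ := exists_diag O hμ h1 hνn (by linear_combination hμν)
  obtain ⟨v, hv⟩ := exists_diag O hμ hνn h1 (by linear_combination hμν)
  obtain ⟨w, hw⟩ := exists_diag O h1 hμ hνn (by linear_combination hμν)
  have hmem : ∀ g : G, O.xm g 1 1 = 1 → Blk (O.xm g) → g ∈ H := fun g h1 hb =>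
    block_mem hyp.root hW ((blk_xm O).1 hb) (by rw [← xm_mid O, h1])
  have huH : u ∈ H := hmem u (by simp [hu]) (by rw [hu]; constructor <;> simp)
  have hvH : p⁻¹ * v * p ∈ H := hmem _ (by simp [cyc_conj O hp, hv]) (by rw [cyc_conj O hp, hv]; constructor <;> simp)
  have hwH : (p * p)⁻¹ * w * (p * p) ∈ H :=
    hmem _ (by rw [cyc_conj_two O hp, hw]; simp) (by rw [cyc_conj_two O hp, hw]; constructor <;> simp)
  have huvw : u = v * w := O.xm_inj (by
    rw [O.xm_mul, hu, hv, hw]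
    ext i j
    fin_cases i <;> fin_cases j <;> simp [Matrix.mul_apply, Fin.sum_univ_three]
    linear_combination -hμν)
  obtain ⟨a, b, ⟨ha, ha'⟩, ⟨hb, hb'⟩, hab⟩ := crit_of_binary hyp.bin p (p * p) u v w huH hvH hwH huvw
  have hA := xblk hyp hW O ha
  have hA' := xblk hyp hW O ha'
  have hB := xblk hyp hW O hb
  have hB' := xblk hyp hW O hb'
  rw [cyc_conj O hp] at hA'
  rw [cyc_conj_two O hp] at hB'
  have a12 : O.xm a 1 2 = 0 := hA.h12
  have a20 : O.xm a 2 0 = 0 := by simpa using hA'.h12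
  have a02 : O.xm a 0 2 = 0 := by simpa using hA'.h21
  have b20 : O.xm b 2 0 = 0 := by simpa using hB'.h01
  have b02 : O.xm b 0 2 = 0 := by simpa using hB'.h10
  have e00 := congrArg (fun g => O.xm g 0 0) hab
  simp [O.xm_mul, hu, Matrix.mul_apply, Fin.sum_univ_three, hA.h01, a02] at e00
  have hd := O.xm_det a
  rw [det_fin_three, hA.h01, hA.h10, a02, hA.h12, hA.h21] at hd
  obtain ⟨hk, hkm⟩ := (blk_of_hyp hyp hW ha).mul (blk_of_hyp hyp hW ha')
  rw [← mat_mul] at hk hkm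
  obtain ⟨hki, hkim⟩ := hk.inv
  obtain ⟨hf, hfm⟩ := hki.mul (blk_of_hyp hyp hW hb')
  rw [← mat_mul] at hf hfm
  refine ⟨_, mul_mem (inv_mem (mul_mem ha ha')) hb', ?_⟩
  have m1 : mat C a 1 1 = O.xm a 1 1 := (xm_mid O a).symm
  have m2 : mat C (p⁻¹ * a * p) 1 1 = O.xm a 2 2 := by rw [← xm_mid O, cyc_conj O hp]; simp
  have m3 : mat C ((p * p)⁻¹ * b * (p * p)) 1 1 = O.xm b 0 0 := by rw [← xm_mid O, cyc_conj_two O hp]; simp
  rw [m1, m2] at hkm
  rw [hkm] at hkim
  rw [hfm, m3]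
  linear_combination O.xm a 0 0 * O.xm b 0 0 * hkim
    - mat C (a * (p⁻¹ * a * p))⁻¹ 1 1 * O.xm b 0 0 * hd - e00

theorem mem_of_blk (O : OFrame C) {g : G} (hg : Blk (O.xm g)) : g ∈ H := by
  have hu := O.xm_unitary g
  have e := congrFun (congrFun hu 1) 1
  simp [Matrix.mul_apply, Fin.sum_univ_three, hg.h01, hg.h21] at e
  obtain ⟨h, hh, hm⟩ := exists_mid hyp hW O (μ := O.xm g 1 1) e
  exact mem_of_mid hyp hW ((blk_xm O).1 hg) hh (hm.trans (xm_mid O g))

theorem false_of_two_roots : False := by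
  obtain ⟨O⟩ := exists_oframe C
  obtain ⟨p, hp⟩ := exists_cyc O
  obtain ⟨μ, hμ, hμ3⟩ := exists_norm_one_cube hyp.q4 C
  have hμ1 : μ ≠ 1 := fun e => hμ3 (by rw [e, one_pow])
  have hμ0 : μ ≠ 0 := left_ne_zero_of_mul_eq_one hμ
  obtain ⟨ν, hν⟩ : ∃ ν, ν = C.σ μ := ⟨_, rfl⟩
  have hμν : μ * ν = 1 := hν ▸ hμ
  have hσν : C.σ ν = μ := by rw [hν, C.hinv]
  have h1 : (1 : F) * C.σ 1 = 1 := by simp
  have h2 : (2 : F) = 0 := CharTwo.two_eq_zero
  obtain ⟨r, hr⟩ := exists_diag O hμ h1 (c := ν) (by rw [hσν]; linear_combination hμν) (by linear_combination hμν)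
  obtain ⟨a, ha⟩ := O.exists_el !![0, 0, 1; 0, 1, 0; 1, 0, 0]
    (by ext i j; fin_cases i <;> fin_cases j <;> simp [Matrix.mul_apply, Fin.sum_univ_three])
    (by simp [det_fin_three, CharTwo.neg_eq])
  obtain ⟨α, hα⟩ := exists_trace C.hne C.hinv (x := 1) (map_one _)
  obtain ⟨K, hK⟩ := O.exists_el !![ν, 1, 1; ν * α, 1, C.σ α; ν * (1 + α) * μ, μ, μ * (1 + C.σ α)]
    (by
      ext i j
      fin_cases i <;> fin_cases j <;> simp [Matrix.mul_apply, Fin.sum_univ_three, hσν, C.hinv]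
      all_goals grind)
    (by simp [det_fin_three]; grind)
  have hab : Blk (O.xm a) := by rw [ha]; constructor <;> simp
  have hao : orderOf a = 2 := by
    refine Invol.order_two_of_sq (O.xm_inj ?_) fun e => ?_
    · rw [O.xm_mul, O.xm_one, ha]
      ext i j
      fin_cases i <;> fin_cases j <;> simp [Matrix.mul_apply, Fin.sum_univ_three]
    · have := congrArg (fun g => O.xm g 0 2) e
      simp [ha, O.xm_one] at this
  have hfix : ∀ g x : G, g • ((x : G) : G ⧸ H) = ((x : G) : G ⧸ H) ↔ x⁻¹ * g * x ∈ H := fun g x => by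
    rw [MulAction.Quotient.smul_coe, eq_comm, QuotientGroup.eq, smul_eq_mul, mul_assoc]
  refine no_swap hyp.bin hyp.one hao (g := a * r) (y := ((K : G) : G ⧸ H)) (z := (((p * p : G)) : G ⧸ H))
    (fun e => ?_) (fun e => ?_) ?_ ?_
  · obtain ⟨b, hb⟩ : ∃ b, b = K⁻¹ * a * K := ⟨_, rfl⟩
    have hB := xblk hyp hW O ((hfix a K).1 e)
    rw [← hb] at hB
    have hKb : O.xm K * O.xm b = O.xm a * O.xm K := by rw [← O.xm_mul, ← O.xm_mul, hb]; congr 1; group
    have r0 := congrFun (congrFun hKb 0) 1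
    have r1 := congrFun (congrFun hKb 1) 1
    simp [Matrix.mul_apply, Fin.sum_univ_three, hB.h01, hB.h21, ha, hK] at r0 r1
    exact hμ1 (by linear_combination r1 - r0)
  · have hB := xblk hyp hW O ((hfix a (p * p)).1 e)
    rw [cyc_conj_two O hp, ha] at hB
    simpa using hB.h01
  · rw [hfix]
    obtain ⟨c, hc⟩ : ∃ c, c = K⁻¹ * (a * r) * K := ⟨_, rfl⟩
    rw [← hc]
    have hKc : O.xm K * O.xm c = O.xm (a * r) * O.xm K := by rw [← O.xm_mul, ← O.xm_mul, hc]; congr 1; group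
    have hcol : ∀ i, (O.xm (a * r) * O.xm K) i 1 = O.xm K i 1 := by
      intro i
      rw [O.xm_mul, ha, hr, hK]
      fin_cases i <;> simp [Matrix.mul_apply, Fin.sum_univ_three] <;> linear_combination hμν
    have hKi : O.xm K⁻¹ * O.xm K = 1 := by rw [← O.xm_mul, inv_mul_cancel, O.xm_one]
    have hcc : ∀ i, O.xm c i 1 = (1 : M3) i 1 := by
      intro i
      rw [← hKi, Matrix.mul_apply, hc, show K⁻¹ * (a * r) * K = K⁻¹ * ((a * r) * K) by group, O.xm_mul,
        Matrix.mul_apply]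
      exact Finset.sum_congr rfl fun k _ => by rw [O.xm_mul, hcol]
    have c01 : O.xm c 0 1 = 0 := by simpa using hcc 0
    have c21 : O.xm c 2 1 = 0 := by simpa using hcc 2
    have c11 : O.xm c 1 1 = 1 := by simpa using hcc 1
    have hu := O.xm_unitary c
    have e10 := congrFun (congrFun hu 1) 0
    have e12 := congrFun (congrFun hu 1) 2
    simp [Matrix.mul_apply, Fin.sum_univ_three, c01, c21, c11] at e10 e12
    exact mem_of_blk hyp hW O ⟨c01, e10, e12, c21⟩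
  · rw [mul_smul, (hfix r (p * p)).2]
    refine mem_of_blk hyp hW O ?_
    rw [cyc_conj_two O hp, hr]
    constructor <;> simp

end Cfsg.Agent.BinInvol
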